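import Cfsg.Agent.Lib.Classical.SympStab

set_option autoImplicit false

/-!
Symplectic groups in characteristic two containing a complement to the transvections in the
unipotent radical of a point stabiliser: elements of the radical, graphs, first commutator lemmas.
-/

namespace CfsgLib.Classical.SympGraph

open Matrix Cfsg SympTrans

variable {F : Type*} [Field F] [CharP F 2] {m : ℕ}

local notation "V" => (Fin m ⊕ Fin m → F)
local notation "G" => Matrix.symplecticGroup (Fin m) F
local notation "ω" => sympForm m F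

theorem two_zero : (2 : F) = 0 := CharTwo.two_eq_zero

theorem vadd_self (x : V) : x + x = 0 := by funext i; exact CharTwo.add_self_eq_zero _

theorem w_comm (u v : V) : ω v u = ω u v := by rw [f_swap, CharTwo.neg_eq]

/-- The element `x ↦ x + ω(x,a) b + ω(x,b) a + l ω(x,a) a` for `ω(a,b) = 0`. -/
def U (a b : V) (l : F) : G := T (a + b) 1 * T a (l + 1) * T b 1

theorem app_U {a b : V} (h : ω a b = 0) (l : F) (x : V) :
    app (U a b l) x = x + ω x a • b + ω x b • a + (l * ω x a) • a := by
  have h' : ω b a = 0 := by rw [w_comm, h]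
  simp only [U, app_mul, app_T, f_add_left, f_add_right, f_smul_left, f_self, h, h', smul_add]
  match_scalars <;> ring_nf <;> simp [two_zero]

theorem U_zero_left (a : V) (l : F) : U a (0 : V) l = T a l := ext_app fun x => by
  rw [app_U (f_zero_right a), app_T, f_zero_right]; simp

theorem U_swap {a b : V} (h : ω a b = 0) : U a b (0 : F) = U b a 0 := ext_app fun x => by
  rw [app_U h, app_U (w_comm a b ▸ h)]; match_scalars <;> ring_nf <;> simp [two_zero]

theorem U_smul {a b : V} (h : ω a b = 0) (c l : F) :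
    U (c • a) b l = U a (c • b) (c * c * l) := ext_app fun x => by
  rw [app_U (by rw [f_smul_left, h, mul_zero]), app_U (by rw [f_smul_right, h, mul_zero]),
    f_smul_right, f_smul_right]
  match_scalars <;> ring_nf <;> simp [two_zero]

theorem U_shift {a b : V} (h : ω a b = 0) (t l : F) : U a (b + t • a) l = U a b l :=
  ext_app fun x => by
    rw [app_U (by rw [f_add_right, f_smul_right, h, f_self, mul_zero, add_zero]), app_U h,
      f_add_right, f_smul_right]
    match_scalars <;> ring_nf <;> simp [two_zero]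

theorem U_self (a : V) (t l : F) : U a (t • a) l = T a l := by
  rw [← zero_add (t • a), U_shift (f_zero_right a), U_zero_left]

theorem U_mul {a b c : V} (hb : ω a b = 0) (hc : ω a c = 0) (k l : F) :
    U a b k * U a c l = U a (b + c) (k + l + ω b c) := ext_app fun x => by
  rw [app_mul, app_U hc, app_U hb, app_U (by rw [f_add_right, hb, hc, add_zero])]
  simp only [f_add_left, f_add_right, f_smul_left, f_self, hb, w_comm a c, hc, w_comm b c]
  match_scalars <;> ring_nf <;> simp [two_zero]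

theorem U_inv {a b : V} (hb : ω a b = 0) (l : F) : (U a b l)⁻¹ = U a b l :=
  inv_eq_of_mul_eq_one_right <| by
    rw [U_mul hb hb, vadd_self, CharTwo.add_self_eq_zero, f_self, add_zero, U_zero_left, T_zero]

theorem conj_U (g : G) (a b : V) (l : F) : g * U a b l * g⁻¹ = U (app g a) (app g b) l := by
  have e : g * U a b l * g⁻¹ =
      (g * T (a + b) 1 * g⁻¹) * (g * T a (l + 1) * g⁻¹) * (g * T b 1 * g⁻¹) := by
    simp only [U]; group
  rw [e, conj_T, conj_T, conj_T, app_add]; rfl

theorem U_conj_U {a b P c : V} (hb : ω a b = 0) (l k : F) :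
    U a b l * U P c k * U a b l = U (app (U a b l) P) (app (U a b l) c) k := by
  nth_rewrite 2 [← U_inv hb l]
  exact conj_U _ _ _ _

variable {L : Subgroup (Matrix.symplecticGroup (Fin m) F)} {a P R : Fin m ⊕ Fin m → F}

/-- `P` is a multiple of an element of the orbit of `a`. -/
def Orb (L : Subgroup G) (a P : V) : Prop := ∃ l ∈ L, ∃ c : F, c ≠ 0 ∧ P = c • app l a

theorem orb_self : Orb L a a := ⟨1, L.one_mem, 1, one_ne_zero, by rw [app_one, one_smul]⟩

theorem orb_smul (h : Orb L a P) {c : F} (hc : c ≠ 0) : Orb L a (c • P) := by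
  obtain ⟨l, hl, d, hd, rfl⟩ := h
  exact ⟨l, hl, c * d, mul_ne_zero hc hd, by rw [smul_smul]⟩

theorem orb_app (h : Orb L a P) {g : G} (hg : g ∈ L) : Orb L a (app g P) := by
  obtain ⟨l, hl, d, hd, rfl⟩ := h
  exact ⟨g * l, L.mul_mem hg hl, d, hd, by rw [app_smul, app_mul]⟩

theorem orb_symm (h : Orb L a P) : Orb L P a := by
  obtain ⟨l, hl, d, hd, rfl⟩ := h
  exact ⟨l⁻¹, L.inv_mem hl, d⁻¹, inv_ne_zero hd, by
    rw [app_smul, app_inv, smul_smul, inv_mul_cancel₀ hd, one_smul]⟩

theorem orb_trans {S : V} (h : Orb L a P) (h' : Orb L P S) : Orb L a S := by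
  obtain ⟨l, hl, d, hd, rfl⟩ := h'
  exact orb_smul (orb_app h hl) hd

theorem orb_ne_zero (ha : a ≠ 0) (h : Orb L a P) : P ≠ 0 := by
  obtain ⟨l, -, d, hd, rfl⟩ := h
  exact smul_ne_zero hd (app_ne_zero l ha)

/-- `L` meets every coset of the transvections in the radical at `a`. -/
def Graph (L : Subgroup G) (a : V) : Prop := ∀ b, ω a b = 0 → ∃ l, U a b l ∈ L

/-- `L` has no transvection with centre `a`. -/
def TFree (L : Subgroup G) (a : V) : Prop := ∀ l : F, T a l ∈ L → l = 0

theorem graph_orb (hG : Graph L a) (h : Orb L a P) : Graph L P := by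
  obtain ⟨l, hl, d, hd, rfl⟩ := h
  intro b hb
  rw [f_smul_left, mul_eq_zero] at hb
  have hb' : ω a (d • app l⁻¹ b) = 0 := by
    rw [f_smul_right, ← f_app l, app_inv', hb.resolve_left hd, mul_zero]
  obtain ⟨k, hk⟩ := hG _ hb'
  refine ⟨k / (d * d), ?_⟩
  have h' := L.mul_mem (L.mul_mem hl hk) (L.inv_mem hl)
  rw [conj_U, app_smul, app_inv'] at h'
  rwa [U_smul (hb.resolve_left hd), mul_div_cancel₀ _ (mul_ne_zero hd hd)]

theorem tfree_orb (hT : TFree L a) (h : Orb L a P) : TFree L P := by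
  obtain ⟨l, hl, d, hd, rfl⟩ := h
  intro k hk
  rw [T_smul] at hk
  have h' := L.mul_mem (L.mul_mem (L.inv_mem hl) hk) (L.inv_mem (L.inv_mem hl))
  rw [conj_T, app_inv] at h'
  simpa [hd] using hT _ h'

theorem tfree_unique (hT : TFree L a) {b : V} (hb : ω a b = 0) {k l : F} (hk : U a b k ∈ L)
    (hl : U a b l ∈ L) : k = l := by
  have h := L.mul_mem hk hl
  rw [U_mul hb hb, vadd_self, U_zero_left, f_self, add_zero] at h
  exact CharTwo.add_eq_zero.1 (hT _ h)

/-- If the transvections at `a` and a non-orthogonal conjugate are all in `L`, so is everything. -/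
theorem eq_top_of_full (hG : Graph L a) (hfull : ∀ l : F, T a l ∈ L) {e : V} (he : Orb L a e)
    (hae : ω a e = 1) : L = ⊤ := by
  have hc : ∀ P, Orb L a P → P ∈ SympStab.centres L := by
    rintro P ⟨l, hl, d, -, rfl⟩
    exact SympStab.smul_mem_centres d (SympStab.app_mem_centres hl hfull)
  have hea : ω e a = 1 := by rw [w_comm, hae]
  have hGe := graph_orb hG he
  have key : ∀ P Q : V, ω P Q = 1 → Orb L a P → Orb L a Q → Graph L P → (∀ l, T P l ∈ L) →
      ∀ v, ω v P ≠ 0 → v ∈ SympStab.centres L := by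
    intro P Q hPQ hP hQ hGP hTP v hv
    obtain ⟨v', hv'⟩ : ∃ v', v' = (ω v P)⁻¹ • v := ⟨_, rfl⟩
    have h1 : ω v' P = 1 := by rw [hv', f_smul_left, inv_mul_cancel₀ hv]
    obtain ⟨b, hb⟩ : ∃ b, b = v' + Q + (ω v' Q) • P := ⟨_, rfl⟩
    have hbP : ω P b = 0 := by
      rw [hb, f_add_right, f_add_right, f_smul_right, f_self, hPQ, w_comm v' P, h1]
      simp [CharTwo.add_self_eq_zero]
    obtain ⟨k, hk⟩ := hGP b hbP
    have hQb : ω Q b = 0 := by
      rw [hb, f_add_right, f_add_right, f_smul_right, f_self, w_comm P Q, hPQ, w_comm v' Q]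
      simp [CharTwo.add_self_eq_zero]
    have hQP : ω Q P = 1 := by rw [w_comm, hPQ]
    have e' : v' = app (T P (k + ω v' Q) * U P b k) Q := by
      rw [app_mul, app_U hbP, hQP, hQb, app_T, f_add_left, f_add_left, f_add_left, f_smul_left,
        f_smul_left, f_smul_left, f_self, w_comm P b, hbP, hQP, hb]
      match_scalars <;> ring_nf <;> simp [two_zero]
    have hv'c : v' ∈ SympStab.centres L := by
      rw [e']; exact SympStab.app_mem_centres (L.mul_mem (hTP _) hk) (hc Q hQ)
    have := SympStab.smul_mem_centres (ω v P) hv'c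
    rwa [hv', smul_smul, mul_inv_cancel₀ hv, one_smul] at this
  refine SympStab.eq_top_of_centres fun v => ?_
  have hA := key a e hae orb_self he hG hfull
  by_cases hva : ω v a = 0
  swap
  · exact hA v hva
  by_cases hve : ω v e = 0
  swap
  · exact key e a hea he orb_self hGe (hc e he) v hve
  by_cases hv0 : v = 0
  · rw [hv0]; intro c; rw [T_zero']; exact L.one_mem
  obtain ⟨z, hz⟩ : ∃ z, ω v z ≠ 0 := by
    by_contra hc'
    push Not at hc'
    exact hv0 (eq_zero_of_f v hc')
  -- a vector meeting `v` and orthogonal to both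
  obtain ⟨b, hb⟩ : ∃ b, b = (ω v z)⁻¹ • (z + ω z e • a + ω z a • e) := ⟨_, rfl⟩
  have hab : ω a b = 0 := by
    rw [hb, f_smul_right, f_add_right, f_add_right, f_smul_right, f_smul_right, f_self, hae,
      w_comm z a]
    simp [CharTwo.add_self_eq_zero]
  have hvb : ω v b = 1 := by
    rw [hb, f_smul_right, f_add_right, f_add_right, f_smul_right, f_smul_right, hva, hve]
    simp [hz]
  obtain ⟨k, hk⟩ := hG b hab
  have hva' : v + a ∈ SympStab.centres L :=
    key e a hea he orb_self hGe (hc e he) _ (by rw [f_add_left, hve, hae, zero_add]; exact one_ne_zero)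
  have h := SympStab.app_mem_centres hk hva'
  rwa [app_U hab, f_add_left, f_add_left, f_self, hva, hvb, hab, add_zero, add_zero, zero_smul,
    one_smul, mul_zero, zero_smul, add_zero, add_zero, add_assoc, vadd_self, add_zero] at h

/-- The basic commutator. -/
theorem step (hG : Graph L a) (haR : ω a R = 0) (hi : ∀ c : F, R ≠ c • a) {s μ : F}
    (hR : U R (s • a) μ ∈ L) (ε : F) : U a ((μ * ε) • R) (μ * ε * ε) ∈ L := by
  obtain ⟨z, hz, hzne⟩ := exists_perp_f_ne hi
  obtain ⟨b, hb⟩ : ∃ b, b = (ε / ω R z) • z := ⟨_, rfl⟩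
  have hab : ω a b = 0 := by rw [hb, f_smul_right, show ω a z = 0 from hz, mul_zero]
  have hRb : ω R b = ε := by rw [hb, f_smul_right, div_mul_cancel₀ _ hzne]
  obtain ⟨l, hl⟩ := hG b hab
  have hRa : ω R a = 0 := by rw [w_comm, haR]
  have h1 := L.mul_mem (L.mul_mem hl hR) hl
  rw [U_conj_U hab] at h1
  have e1 : app (U a b l) R = R + ε • a := by
    rw [app_U hab, hRa, hRb]; simp
  have e2 : app (U a b l) (s • a) = s • a := by
    rw [app_U hab, f_smul_left, f_smul_left, f_self, hab]; simp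
  rw [e1, e2] at h1
  have h2 := L.mul_mem h1 hR
  have e3 : U (R + ε • a) (s • a) μ * U R (s • a) μ = U a ((μ * ε) • R) (μ * ε * ε) := by
    refine ext_app fun x => ?_
    rw [app_mul, app_U (by rw [f_smul_right, f_add_left, f_smul_left, hRa, f_self, mul_zero, add_zero, mul_zero]),
      app_U (by rw [f_smul_right, hRa, mul_zero]), app_U (by rw [f_smul_right, haR, mul_zero])]
    simp only [f_add_left, f_add_right, f_smul_left, f_smul_right, f_self, haR, hRa]
    match_scalars <;> ring_nf <;> simp [two_zero]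
  rwa [e3] at h2

theorem exists_f_orth (hm : 3 ≤ m) (haR : ω a R = 0) (ha : a ≠ 0) (hi : ∀ c : F, R ≠ c • a)
    (β : F) : ∃ w w', ω a w = 0 ∧ ω R w = 0 ∧ ω a w' = 0 ∧ ω R w' = 0 ∧ ω w w' = β := by
  obtain ⟨a', ha'⟩ : ∃ a', ω a a' = 1 := by
    obtain ⟨z, hz⟩ : ∃ z, ω a z ≠ 0 := by
      by_contra hc
      push Not at hc
      exact ha (eq_zero_of_f a hc)
    exact ⟨(ω a z)⁻¹ • z, by rw [f_smul_right, inv_mul_cancel₀ hz]⟩
  obtain ⟨z, hz, hzne⟩ := exists_perp_f_ne hi
  obtain ⟨R', hR'⟩ : ∃ R', R' = (ω R z)⁻¹ • z := ⟨_, rfl⟩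
  have hRR' : ω R R' = 1 := by rw [hR', f_smul_right, inv_mul_cancel₀ hzne]
  have haR' : ω a R' = 0 := by rw [hR', f_smul_right, show ω a z = 0 from hz, mul_zero]
  obtain ⟨a'', ha''⟩ : ∃ a'', a'' = a' + ω R a' • R' := ⟨_, rfl⟩
  have haa : ω a a'' = 1 := by
    rw [ha'', f_add_right, f_smul_right, haR', ha', mul_zero, add_zero]
  have hRa : ω R a'' = 0 := by
    rw [ha'', f_add_right, f_smul_right, hRR', mul_one, CharTwo.add_self_eq_zero]
  let φ : V →ₗ[F] (Fin 4 → F) :=
    { toFun := fun x => ![ω a x, ω R x, ω a'' x, ω R' x]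
      map_add' := fun x y => by ext i; fin_cases i <;> simp [f_add_right]
      map_smul' := fun c x => by ext i; fin_cases i <;> simp [f_smul_right] }
  have hker : LinearMap.ker φ ≠ ⊥ := fun e => by
    have h1 := LinearMap.finrank_le_finrank_of_injective (LinearMap.ker_eq_bot.1 e)
    rw [Module.finrank_fin_fun, Module.finrank_pi, Fintype.card_sum, Fintype.card_fin] at h1
    omega
  obtain ⟨w, hw, hw0⟩ := Submodule.exists_mem_ne_zero_of_ne_bot hker
  have hw' := LinearMap.mem_ker.1 hw
  have w1 : ω a w = 0 := congrFun hw' 0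
  have w2 : ω R w = 0 := congrFun hw' 1
  have w3 : ω w a'' = 0 := by rw [w_comm]; exact congrFun hw' 2
  have w4 : ω w R' = 0 := by rw [w_comm]; exact congrFun hw' 3
  obtain ⟨v, hv⟩ : ∃ v, ω w v ≠ 0 := by
    by_contra hc
    push Not at hc
    exact hw0 (eq_zero_of_f w hc)
  obtain ⟨v', hv'⟩ : ∃ v', v' = v + ω a v • a'' + ω R v • R' := ⟨_, rfl⟩
  have e : ω w v' = ω w v := by
    rw [hv', f_add_right, f_add_right, f_smul_right, f_smul_right, w3, w4]; simp
  refine ⟨w, (β / ω w v) • v', w1, w2, ?_, ?_, by rw [f_smul_right, e, div_mul_cancel₀ _ hv]⟩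
  · rw [f_smul_right, hv', f_add_right, f_add_right, f_smul_right, f_smul_right, haa, haR']
    simp [CharTwo.add_self_eq_zero]
  · rw [f_smul_right, hv', f_add_right, f_add_right, f_smul_right, f_smul_right, hRa, hRR']
    simp [CharTwo.add_self_eq_zero]

theorem step_zero (hm : 3 ≤ m) (hG : Graph L a) (hGR : Graph L R) (ha : a ≠ 0)
    (haR : ω a R = 0) (hi : ∀ c : F, R ≠ c • a) (β : F) : U a (β • R) 0 ∈ L := by
  obtain ⟨w, w', hw, hRw, hw', hRw', hww⟩ := exists_f_orth hm haR ha hi β
  obtain ⟨l, hl⟩ := hG w hw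
  obtain ⟨k, hk⟩ := hGR w' hRw'
  have h1 := L.mul_mem (L.mul_mem hl hk) hl
  rw [U_conj_U hw] at h1
  have hRa : ω R a = 0 := by rw [w_comm, haR]
  have e1 : app (U a w l) R = R := by rw [app_U hw, hRa, hRw]; simp
  have hw'a : ω w' a = 0 := by rw [w_comm, hw']
  have e2 : app (U a w l) w' = w' + β • a := by
    rw [app_U hw, hw'a, w_comm w w', hww]; simp
  rw [e1, e2] at h1
  have h2 := L.mul_mem h1 hk
  have h3 : ω R (w' + β • a) = 0 := by rw [f_add_right, f_smul_right, hRw', hRa]; simp
  rw [U_mul h3 hRw', f_add_left, f_smul_left, f_self, w_comm w' a, hw'a] at h2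
  rw [show w' + β • a + w' = β • a by rw [add_comm, ← add_assoc, vadd_self, zero_add],
    CharTwo.add_self_eq_zero, zero_add, mul_zero, add_zero,
    U_swap (by rw [f_smul_right, hRa, mul_zero]), U_smul haR, mul_zero] at h2
  exact h2

end CfsgLib.Classical.SympGraph
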