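import Cfsg.Agent.Lib.Classical.SympGraph.Basic

set_option autoImplicit false

/-!
The two radicals at a non-orthogonal pair carry one quadratic form, or there is a transvection.
-/

namespace CfsgLib.Classical.SympGraph

open Matrix Cfsg SympTrans

variable {F : Type*} [Field F] [Finite F] [CharP F 2] {m : ℕ}

local notation "V" => (Fin m ⊕ Fin m → F)
local notation "G" => Matrix.symplecticGroup (Fin m) F
local notation "ω" => sympForm m F

variable {L : Subgroup (Matrix.symplecticGroup (Fin m) F)} {a e : Fin m ⊕ Fin m → F}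
  {f g : (Fin m ⊕ Fin m → F) → F}

theorem exists_square_root (x : F) : ∃ r : F, r * r = x := by
  have hinj : Function.Injective fun s : F => s * s := fun u v h => by
    have : (u + v) * (u + v) = 0 := by
      have h' : u * u = v * v := h
      linear_combination h' + (v * v + u * v) * two_zero (F := F)
    exact CharTwo.add_eq_zero.1 (mul_self_eq_zero.1 this)
  exact Finite.surjective_of_injective hinj x

/-- The orthogonal projection to the complement of a hyperbolic pair. -/
def pr (a e v : V) : V := v + ω v e • a + ω v a • e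

theorem pr_left (hae : ω a e = 1) (v : V) : ω a (pr a e v) = 0 := by
  rw [pr, f_add_right, f_add_right, f_smul_right, f_smul_right, f_self, hae, w_comm v a]
  simp [CharTwo.add_self_eq_zero]

theorem pr_right (hae : ω a e = 1) (v : V) : ω e (pr a e v) = 0 := by
  rw [pr, f_add_right, f_add_right, f_smul_right, f_smul_right, f_self, w_comm a e, hae, w_comm v e]
  simp [CharTwo.add_self_eq_zero]

theorem f_pr {b : V} (hab : ω a b = 0) (heb : ω e b = 0) (v : V) :
    ω b (pr a e v) = ω b v := by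
  rw [pr, f_add_right, f_add_right, f_smul_right, f_smul_right, w_comm a b, w_comm e b, hab, heb]
  simp

/-- A conjugate `e` of `a` with `ω a e = 1` and the values of the two graphs. -/
structure Pair (L : Subgroup G) (a e : V) (f g : V → F) : Prop where
  ae : ω a e = 1
  orb : Orb L a e
  hf : ∀ b, ω a b = 0 → ω e b = 0 → U a b (f b) ∈ L
  hg : ∀ b, ω a b = 0 → ω e b = 0 → U e b (g b) ∈ L

theorem exists_pair (hG : Graph L a) (he : Orb L a e) (hae : ω a e = 1) :
    ∃ f g, Pair L a e f g := by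
  classical
  refine ⟨fun b => if h : ω a b = 0 then (hG b h).choose else 0,
    fun b => if h : ω e b = 0 then (graph_orb hG he b h).choose else 0, hae, he, ?_, ?_⟩
  · intro b h _
    simp only [dif_pos h]
    exact (hG b h).choose_spec
  · intro b _ h
    simp only [dif_pos h]
    exact (graph_orb hG he b h).choose_spec

theorem Pair.symm (P : Pair L a e f g) : Pair L e a g f :=
  ⟨by rw [w_comm, P.ae], orb_symm P.orb, fun b h h' => P.hg b h' h, fun b h h' => P.hf b h' h⟩

theorem Pair.app_f (P : Pair L a e f g) {b : V} (hab : ω a b = 0) (heb : ω e b = 0) :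
    app (U a b (f b)) e = e + b + f b • a := by
  rw [app_U hab, w_comm a e, P.ae, heb, one_smul, zero_smul, add_zero, mul_one]

theorem exists_ne_in (hm : 2 ≤ m) (c : V) : ∃ d, ω a d = 0 ∧ ω e d = 0 ∧ ω c d = 0 ∧ d ≠ 0 := by
  let φ : V →ₗ[F] (Fin 3 → F) :=
    { toFun := fun x => ![ω a x, ω e x, ω c x]
      map_add' := fun x y => by ext i; fin_cases i <;> simp [f_add_right]
      map_smul' := fun t x => by ext i; fin_cases i <;> simp [f_smul_right] }
  have hker : LinearMap.ker φ ≠ ⊥ := fun h => by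
    have h1 := LinearMap.finrank_le_finrank_of_injective (LinearMap.ker_eq_bot.1 h)
    rw [Module.finrank_fin_fun, Module.finrank_pi, Fintype.card_sum, Fintype.card_fin] at h1
    omega
  obtain ⟨w, hw, hw0⟩ := Submodule.exists_mem_ne_zero_of_ne_bot hker
  have hw' := LinearMap.mem_ker.1 hw
  exact ⟨w, congrFun hw' 0, congrFun hw' 1, congrFun hw' 2, hw0⟩

/-- A transvection gives an orthogonal conjugate. -/
theorem exists_orth_of_T (hm : 2 ≤ m) (P : Pair L a e f g) {l : F} (hl : l ≠ 0) (hT : T a l ∈ L) :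
    ∃ R, Orb L a R ∧ ω a R = 0 ∧ ∀ c : F, R ≠ c • a := by
  obtain ⟨k, hk0, hk⟩ : ∃ k : F, k ≠ 0 ∧ T e k ∈ L := by
    by_contra hc
    push Not at hc
    exact hl (tfree_orb (L := L) (a := e) (fun k hk => by_contra fun h => hc k h hk)
      (orb_symm P.orb) l hT)
  obtain ⟨c0, h1, h2, -, hc0⟩ := exists_ne_in (a := a) (e := e) hm (0 : V)
  obtain ⟨μ, c, hc, hac, hec, hmem, hμ⟩ : ∃ (μ : F) (c : V), c ≠ 0 ∧ ω a c = 0 ∧ ω e c = 0 ∧
      U e c μ ∈ L ∧ (μ = 0 ∨ μ = k) := by
    have ha : ∀ t : F, ω a (t • c0) = 0 := fun t => by rw [f_smul_right, h1, mul_zero]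
    have he : ∀ t : F, ω e (t • c0) = 0 := fun t => by rw [f_smul_right, h2, mul_zero]
    by_cases hinj : Function.Injective fun t : F => g (t • c0)
    · by_cases h0 : g ((0 : F) • c0) = k
      · have h := P.hg ((0 : F) • c0) (ha 0) (he 0)
        obtain ⟨t, ht⟩ := (Finite.injective_iff_surjective.1 hinj) 0
        have ht' : g (t • c0) = 0 := ht
        refine ⟨0, t • c0, smul_ne_zero (fun h' => hk0 ?_) hc0, ha t, he t, ?_, Or.inl rfl⟩
        · rw [h'] at ht'; rw [← h0, ht']
        · rw [← ht']; exact P.hg _ (ha t) (he t)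
      · obtain ⟨t, ht⟩ := (Finite.injective_iff_surjective.1 hinj) k
        have ht' : g (t • c0) = k := ht
        refine ⟨k, t • c0, smul_ne_zero (fun h' => h0 ?_) hc0, ha t, he t, ?_, Or.inr rfl⟩
        · rw [← h']; exact ht'
        · rw [← ht']; exact P.hg _ (ha t) (he t)
    · simp only [Function.Injective, not_forall] at hinj
      obtain ⟨s, t, hst, hne⟩ := hinj
      refine ⟨0, (s + t) • c0, smul_ne_zero (fun h => hne (CharTwo.add_eq_zero.1 h)) hc0, ha _,
        he _, ?_, Or.inl rfl⟩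
      have h := L.mul_mem (P.hg _ (ha s) (he s)) (P.hg _ (ha t) (he t))
      rwa [U_mul (he s) (he t), ← add_smul, hst, CharTwo.add_self_eq_zero, f_smul_left,
        f_smul_right, f_self, zero_add, mul_zero, mul_zero] at h
  have hea : ω a e = 1 := P.ae
  have key : app (U e c μ) a = a + c + μ • e := by
    rw [app_U hec, hea, hac]; simp
  rcases hμ with rfl | rfl
  · refine ⟨app (U e c 0) a, orb_app orb_self hmem, ?_, fun t ht => hc ?_⟩
    · rw [key, f_add_right, f_add_right, f_self, hac, f_smul_right, hea]; simp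
    · rw [key, zero_smul, add_zero] at ht
      have h := congrArg (fun v => ω e v) ht
      simp only [f_add_right, f_smul_right, hec, w_comm a e, hea, mul_one, add_zero] at h
      rw [← h, one_smul] at ht
      exact add_eq_left.1 ht
  · refine ⟨app (U e c μ * T e μ) a, orb_app orb_self (L.mul_mem hmem hk), ?_, fun t ht => hc ?_⟩
    · rw [app_mul, app_T, hea, app_add, key, app_smul, app_U hec]
      simp [f_add_right, f_smul_right, f_self, hac, hea, hec, CharTwo.add_self_eq_zero]
    · rw [app_mul, app_T, hea, app_add, key, app_smul, app_U hec, f_self, hec] at ht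
      have h := congrArg (fun v => ω e v) ht
      simp only [f_add_right, f_smul_right, hec, w_comm a e, hea, f_self, mul_one, add_zero,
        zero_smul, mul_zero] at h
      rw [← h, one_smul] at ht
      simp only [mul_one, zero_smul, add_zero, mul_zero] at ht
      rw [add_assoc, add_assoc, vadd_self, add_zero] at ht
      exact add_eq_left.1 ht

/-- Two steps of the basic commutator. -/
theorem two_step (hG : Graph L a) {R : V} (hR : Graph L R) (haR : ω a R = 0)
    (hi : ∀ c : F, R ≠ c • a) (hi' : ∀ c : F, a ≠ c • R) {s l : F} (h : U a (s • R) l ∈ L)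
    (hl : l ≠ 0) {δ : F} (hδ : δ ≠ 0) (r : F) :
    U a (r • R) (r * r / (l * δ * δ)) ∈ L := by
  have h1 := step hR (by rw [w_comm, haR]) hi' h δ
  have h2 := step hG haR hi h1 (r / (l * δ * δ))
  have hne : l * δ * δ ≠ 0 := mul_ne_zero (mul_ne_zero hl hδ) hδ
  rwa [mul_div_cancel₀ _ hne, ← mul_div_assoc] at h2

theorem indep_symm {R : V} (ha : a ≠ 0) (hR : R ≠ 0) (hi : ∀ c : F, R ≠ c • a) (c : F) :
    a ≠ c • R := fun h => by
  by_cases hc : c = 0
  · exact ha (by rw [h, hc, zero_smul])
  · exact hi c⁻¹ (by rw [h, smul_smul, inv_mul_cancel₀ hc, one_smul])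

/-- A transvection forces the whole symplectic group. -/
theorem eq_top_of_T (hm : 2 ≤ m) (hG : Graph L a) (P : Pair L a e f g) (h : ¬ TFree L a) :
    L = ⊤ := by
  refine eq_top_of_full hG (fun x => ?_) P.orb P.ae
  simp only [TFree, not_forall] at h
  obtain ⟨l, hT, hl⟩ := h
  have ha : a ≠ 0 := fun h => one_ne_zero (α := F) (by rw [← P.ae, h, f_zero_left])
  obtain ⟨R, hR, haR, hi⟩ := exists_orth_of_T hm P hl hT
  by_cases hδ : ∃ δ : F, δ ≠ 0 ∧ δ ≠ 1
  · obtain ⟨δ, hδ0, hδ1⟩ := hδ
    have hi' := indep_symm ha (orb_ne_zero ha hR) hi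
    have hGR := graph_orb hG hR
    have h0 : U a ((0 : F) • R) l ∈ L := by rwa [zero_smul, U_zero_left]
    have hne : (1 : F) / l + 1 / (l * δ * δ) ≠ 0 := fun h => by
      have : (δ + 1) * (δ + 1) = 0 := by
        field_simp at h
        linear_combination h + δ * two_zero (F := F)
      exact hδ1 (CharTwo.add_eq_zero.1 (mul_self_eq_zero.1 this))
    obtain ⟨r, hr⟩ := exists_square_root (x / ((1 : F) / l + 1 / (l * δ * δ)))
    have e1 := L.mul_mem (two_step hG hGR haR hi hi' h0 hl one_ne_zero r)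
      (two_step hG hGR haR hi hi' h0 hl hδ0 r)
    have hb : ω a (r • R) = 0 := by rw [f_smul_right, haR, mul_zero]
    rw [U_mul hb hb, vadd_self, U_zero_left, f_self, add_zero] at e1
    have e2 : r * r / (l * 1 * 1) + r * r / (l * δ * δ) = x := by
      rw [hr, mul_one, mul_one]
      have := div_mul_cancel₀ x hne
      linear_combination this
    rwa [e2] at e1
  · push Not at hδ
    by_cases hx : x = 0
    · rw [hx, T_zero]; exact L.one_mem
    · rwa [hδ x hx, ← hδ l hl]

/-- Orthogonal members of the orbit give elements with zero value. -/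
def Zero (L : Subgroup G) (a : V) : Prop :=
  ∀ P R, Orb L a P → Orb L a R → ω P R = 0 → ∀ s : F, U P (s • R) 0 ∈ L

theorem zero_of (hbig : 3 ≤ m ∨ 3 ≤ Nat.card F) (hG : Graph L a) (hT : TFree L a) (ha : a ≠ 0) :
    Zero L a := by
  intro P R hP hR hPR s
  have hGP := graph_orb hG hP
  have hGR := graph_orb hG hR
  have hTP := tfree_orb hT hP
  have hP0 := orb_ne_zero ha hP
  have hR0 := orb_ne_zero ha hR
  by_cases hi : ∃ c : F, R = c • P
  · obtain ⟨c, rfl⟩ := hi
    rw [smul_smul, U_self, T_zero]; exact L.one_mem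
  push Not at hi
  by_cases hm : 3 ≤ m
  · exact step_zero hm hGP hGR hP0 hPR hi s
  have hq := hbig.resolve_left hm
  have hb : ω P (s • R) = 0 := by rw [f_smul_right, hPR, mul_zero]
  obtain ⟨l, hl⟩ := hGP _ hb
  by_cases hl0 : l = 0
  · rwa [hl0] at hl
  exfalso
  obtain ⟨δ, hδ0, hδ1⟩ : ∃ δ : F, δ ≠ 0 ∧ δ ≠ 1 := by
    by_contra hc
    push Not at hc
    have : Nat.card F ≤ 2 := by
      refine le_trans (Nat.card_le_card_of_surjective (fun b : Bool => if b then (1 : F) else 0)
        fun x => ?_) (le_of_eq (by simp))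
      by_cases hx : x = 0
      · exact ⟨false, by simp [hx]⟩
      · exact ⟨true, by simp [hc x hx]⟩
    omega
  have hi' := indep_symm hP0 hR0 hi
  have h1 := two_step hGP hGR hPR hi hi' hl hl0 one_ne_zero 1
  have h2 := two_step hGP hGR hPR hi hi' hl hl0 hδ0 1
  have h3 := tfree_unique hTP (by rw [f_smul_right, hPR, mul_zero]) h1 h2
  have : (δ + 1) * (δ + 1) = 0 := by
    rw [div_eq_div_iff (by simpa using hl0) (mul_ne_zero (mul_ne_zero hl0 hδ0) hδ0)] at h3
    have h4 : l * (δ * δ - 1) = 0 := by linear_combination h3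
    linear_combination ((mul_eq_zero.1 h4).resolve_left hl0) + (δ + 1) * two_zero (F := F)
  exact hδ1 (CharTwo.add_eq_zero.1 (mul_self_eq_zero.1 this))

variable (hT : TFree L a) (P : Pair L a e f g)
include hT P

theorem Pair.f_eq {b : V} (hab : ω a b = 0) (heb : ω e b = 0) {l : F} (h : U a b l ∈ L) :
    l = f b := tfree_unique hT hab h (P.hf b hab heb)

theorem Pair.f_zero : f 0 = 0 :=
  (P.f_eq hT (f_zero_right a) (f_zero_right e) (l := 0) (by
    rw [U_zero_left, T_zero]; exact L.one_mem)).symm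

theorem Pair.f_add {b c : V} (hab : ω a b = 0) (heb : ω e b = 0) (hac : ω a c = 0)
    (hec : ω e c = 0) : f (b + c) = f b + f c + ω b c := by
  refine (P.f_eq hT (by rw [f_add_right, hab, hac, add_zero])
    (by rw [f_add_right, heb, hec, add_zero]) ?_).symm
  rw [← U_mul hab hac]
  exact L.mul_mem (P.hf b hab heb) (P.hf c hac hec)

theorem Pair.zero_transfer (hZ : Zero L a) {b : V} (hab : ω a b = 0) (heb : ω e b = 0)
    (h : f b = 0) (t : F) : g (t • b) = 0 := by
  have hR : Orb L a (e + b) := by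
    have h' := orb_app P.orb (P.hf b hab heb)
    rwa [P.app_f hab heb, h, zero_smul, add_zero] at h'
  have h' := hZ e (e + b) P.orb hR (by rw [f_add_right, f_self, heb, add_zero]) t
  have e' : ω e (t • b) = 0 := by rw [f_smul_right, heb, mul_zero]
  rw [smul_add, add_comm, U_shift e'] at h'
  exact tfree_unique (tfree_orb hT P.orb) e'
    (P.hg _ (by rw [f_smul_right, hab, mul_zero]) e') h'

/-- With a zero the two functions are one quadratic form. -/
theorem Pair.quad_of_zero (hZ : Zero L a) {y : V} (hay : ω a y = 0) (hey : ω e y = 0)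
    (hy0 : y ≠ 0) (hy : ∀ t : F, f (t • y) = 0) {b : V} (hab : ω a b = 0) (heb : ω e b = 0) :
    f b = g b ∧ ∀ t : F, f (t • b) = t * t * f b := by
  have hT' := tfree_orb hT P.orb
  have hZ' : Zero L e := fun u v hu hv h => hZ u v (orb_trans P.orb hu) (orb_trans P.orb hv) h
  have hsA : ∀ {v : V} (t : F), ω a v = 0 → ω a (t • v) = 0 := fun t h => by
    rw [f_smul_right, h, mul_zero]
  have hsE : ∀ {v : V} (t : F), ω e v = 0 → ω e (t • v) = 0 := fun t h => by
    rw [f_smul_right, h, mul_zero]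
  let S : V → Prop := fun v => ω a v = 0 ∧ ω e v = 0 ∧ f v = g v ∧
    ∀ t : F, f (t • v) = t * t * f v ∧ g (t • v) = t * t * g v
  have hadd : ∀ u v, S u → S v → S (u + v) := by
    rintro u v ⟨u1, u2, u3, u4⟩ ⟨v1, v2, v3, v4⟩
    have eg : g (u + v) = g u + g v + ω u v := P.symm.f_add hT' u2 u1 v2 v1
    refine ⟨by rw [f_add_right, u1, v1, add_zero], by rw [f_add_right, u2, v2, add_zero],
      by rw [P.f_add hT u1 u2 v1 v2, eg, u3, v3], fun t => ⟨?_, ?_⟩⟩
    · rw [smul_add, P.f_add hT (hsA t u1) (hsE t u2) (hsA t v1) (hsE t v2), (u4 t).1, (v4 t).1,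
        P.f_add hT u1 u2 v1 v2, f_smul_left, f_smul_right]
      ring
    · rw [smul_add, P.symm.f_add hT' (hsE t u2) (hsA t u1) (hsE t v2) (hsA t v1), (u4 t).2,
        (v4 t).2, eg, f_smul_left, f_smul_right]
      ring
  have hzero : ∀ v, ω a v = 0 → ω e v = 0 → f v = 0 → ∀ t : F, S (t • v) := by
    intro v h1 h2 h3
    have g0 := P.zero_transfer hT hZ h1 h2 h3
    have f0 : ∀ t : F, f (t • v) = 0 := fun t => by
      have h := P.symm.zero_transfer hT' hZ' h2 h1 (by simpa using g0 1) t
      exact h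
    intro t
    refine ⟨hsA t h1, hsE t h2, by rw [f0, g0], fun s => ⟨?_, ?_⟩⟩ <;>
      rw [smul_smul] <;> simp [f0, g0]
  have hy' : f y = 0 := by simpa using hy 1
  have main : ∀ w, ω a w = 0 → ω e w = 0 → ω y w ≠ 0 → S w := by
    intro w h1 h2 h3
    obtain ⟨s, hs⟩ : ∃ s, s = f w / ω y w := ⟨_, rfl⟩
    have hz : f (s • y + w) = 0 := by
      rw [P.f_add hT (hsA s hay) (hsE s hey) h1 h2, hy, f_smul_left, hs, div_mul_cancel₀ _ h3,
        zero_add, CharTwo.add_self_eq_zero]
    have h := hadd _ _ (hzero _ (by rw [f_add_right, hsA s hay, h1, add_zero])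
      (by rw [f_add_right, hsE s hey, h2, add_zero]) hz 1) (hzero y hay hey hy' s)
    rwa [one_smul, add_comm (s • y) w, add_assoc, vadd_self, add_zero] at h
  obtain ⟨w₁, h1, h2, h3⟩ : ∃ w, ω a w = 0 ∧ ω e w = 0 ∧ ω y w ≠ 0 := by
    by_contra hc
    push Not at hc
    refine hy0 (eq_zero_of_f y fun v => ?_)
    rw [← f_pr hay hey]
    exact hc _ (pr_left P.ae v) (pr_right P.ae v)
  have hb : S b := by
    by_cases hyb : ω y b = 0
    · have h := hadd _ _ (main (b + w₁) (by rw [f_add_right, hab, h1, add_zero])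
        (by rw [f_add_right, heb, h2, add_zero]) (by rw [f_add_right, hyb, zero_add]; exact h3))
        (main w₁ h1 h2 h3)
      rwa [add_assoc, vadd_self, add_zero] at h
    · exact main b hab heb hyb
  exact ⟨hb.2.2.1, fun t => (hb.2.2.2 t).1⟩

omit hT in
theorem Pair.app_conj {b : V} (hab : ω a b = 0) (heb : ω e b = 0) {c : V} (hac : ω a c = 0)
    (hec : ω e c = 0) (hcb : ω c b = 0) :
    app (U a b (f b) * U e c (g c)) a = (1 + g c * f b) • a + (c + g c • b) + g c • e := by
  rw [app_mul, app_U hec, P.ae, hac, app_add, app_add, app_add, app_smul, app_smul, app_smul,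
    P.app_f hab heb, app_U hab, app_U hab, f_self, hab, w_comm a c, hac, hcb]
  simp only [mul_one, zero_smul, mul_zero, one_smul]
  match_scalars <;> ring

/-- Without orthogonal conjugates the two functions are one quadratic form. -/
theorem Pair.quad_of_aniso (hm : 2 ≤ m)
    (hA : ∀ u v, Orb L a u → Orb L a v → ω u v = 0 → ∃ c : F, v = c • u)
    {b : V} (hab : ω a b = 0) (heb : ω e b = 0) :
    f b = g b ∧ ∀ t : F, f (t • b) = t * t * f b := by
  have hT' := tfree_orb hT P.orb
  have hsA : ∀ {v : V} (t : F), ω a v = 0 → ω a (t • v) = 0 := fun t h => by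
    rw [f_smul_right, h, mul_zero]
  have hsE : ∀ {v : V} (t : F), ω e v = 0 → ω e (t • v) = 0 := fun t h => by
    rw [f_smul_right, h, mul_zero]
  -- no zeros
  have nz : ∀ {a e : V} {f g : V → F}, Pair L a e f g → (∀ u v, Orb L a u → Orb L a v → ω u v = 0 →
      ∃ c : F, v = c • u) → ∀ c, ω a c = 0 → ω e c = 0 → g c = 0 → c = 0 := by
    intro a e f g P hA c hac hec h0
    have hR := orb_app orb_self (P.hg c hac hec) (a := a)
    rw [app_U hec, P.ae, hac, h0] at hR
    simp only [one_smul, zero_smul, add_zero, zero_mul] at hR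
    obtain ⟨t, ht⟩ := hA a _ orb_self hR (by rw [f_add_right, f_self, hac, add_zero])
    have h := congrArg (fun v => ω e v) ht
    simp only [f_add_right, f_smul_right, hec, w_comm a e, P.ae, mul_one, add_zero] at h
    rw [← h, one_smul] at ht
    exact add_eq_left.1 ht
  have hA' : ∀ u v, Orb L e u → Orb L e v → ω u v = 0 → ∃ c : F, v = c • u :=
    fun u v hu hv => hA u v (orb_trans P.orb hu) (orb_trans P.orb hv)
  have hit : ∀ c : V, ω a c = 0 → ω e c = 0 → c ≠ 0 → ∀ μ : F, ∃ s : F, g (s • c) = μ := by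
    intro c h1 h2 h3 μ
    refine Finite.surjective_of_injective (f := fun s : F => g (s • c)) (fun s t hst => ?_) μ
    have h : g ((s + t) • c) = 0 := by
      rw [add_smul, P.symm.f_add hT' (hsE s h2) (hsA s h1) (hsE t h2) (hsA t h1),
        show g (s • c) = g (t • c) from hst, CharTwo.add_self_eq_zero, f_smul_left, f_smul_right,
        f_self]
      simp
    have := nz P hA _ (hsA _ h1) (hsE _ h2) h
    exact CharTwo.add_eq_zero.1 ((smul_eq_zero.1 this).resolve_right h3)
  -- the value at the normalised vector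
  have ident : ∀ {a e : V} {f g : V → F}, Pair L a e f g → TFree L e → (∀ u v, Orb L a u →
      Orb L a v → ω u v = 0 → ∃ c : F, v = c • u) → ∀ b, ω a b = 0 → ω e b = 0 → f b ≠ 0 → b ≠ 0 →
      g ((f b)⁻¹ • b) = (f b)⁻¹ := by
    intro a e f g P hT' hA b h1 h2 h3 hb0
    have hit : ∀ μ : F, ∃ s : F, g (s • b) = μ := by
      intro μ
      refine Finite.surjective_of_injective (f := fun s : F => g (s • b)) (fun s t hst => ?_) μ
      have e1 : ∀ r : F, ω a (r • b) = 0 := fun r => by rw [f_smul_right, h1, mul_zero]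
      have e2 : ∀ r : F, ω e (r • b) = 0 := fun r => by rw [f_smul_right, h2, mul_zero]
      have h : g ((s + t) • b) = 0 := by
        rw [add_smul, P.symm.f_add hT' (e2 s) (e1 s) (e2 t) (e1 t),
          show g (s • b) = g (t • b) from hst, CharTwo.add_self_eq_zero, f_smul_left, f_smul_right,
          f_self]
        simp
      exact CharTwo.add_eq_zero.1 ((smul_eq_zero.1 (nz P hA _ (e1 _) (e2 _) h)).resolve_right hb0)
    obtain ⟨s, hs⟩ := hit (f b)⁻¹
    have k1 : ω a (s • b) = 0 := by rw [f_smul_right, h1, mul_zero]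
    have k2 : ω e (s • b) = 0 := by rw [f_smul_right, h2, mul_zero]
    have hR := orb_app orb_self (L.mul_mem (P.hf b h1 h2) (P.hg _ k1 k2)) (a := a)
    rw [P.app_conj h1 h2 k1 k2 (by rw [f_smul_left, f_self, mul_zero]), hs, inv_mul_cancel₀ h3,
      CharTwo.add_self_eq_zero, zero_smul, zero_add] at hR
    obtain ⟨t, ht⟩ := hA e _ P.orb hR (by
      simp [f_add_right, f_smul_right, f_self, h2])
    have h := congrArg (fun v => ω a v) ht
    simp only [f_add_right, f_smul_right, h1, mul_zero, add_zero, zero_add, P.ae, mul_one] at h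
    rw [← h, add_eq_right, ← add_smul, smul_eq_zero] at ht
    rw [CharTwo.add_eq_zero.1 (ht.resolve_right hb0)] at hs
    exact hs
  -- the equation
  have EQ : ∀ c, ω a c = 0 → ω e c = 0 → c ≠ 0 → ∀ w, ω a w = 0 → ω e w = 0 →
      g c * g c * f w + g (g c • w) = g (ω w c • c) + g c * (ω w c * ω w c) := by
    intro c hac hec hc w haw hew
    obtain ⟨γ, hγ⟩ : ∃ γ, γ = g c := ⟨_, rfl⟩
    rw [← hγ]
    have hγ0 : γ ≠ 0 := fun h => hc (nz P hA c hac hec (hγ ▸ h))
    obtain ⟨b, hb⟩ : ∃ b, b = γ⁻¹ • c := ⟨_, rfl⟩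
    have hab : ω a b = 0 := hb ▸ hsA _ hac
    have heb : ω e b = 0 := hb ▸ hsE _ hec
    have hfb : f b = γ⁻¹ := by
      rw [hb, hγ]; exact ident P.symm hT hA' c hec hac (hγ ▸ hγ0) hc
    have hl := L.mul_mem (P.hf b hab heb) (P.hg c hac hec)
    have h1 := L.mul_mem (L.mul_mem hl (P.hf w haw hew)) (L.inv_mem hl)
    rw [conj_U, P.app_conj hab heb hac hec (by rw [hb, f_smul_right, f_self, mul_zero])] at h1
    have e1 : (1 + g c * f b) • a + (c + g c • b) + g c • e = γ • e := by
      rw [← hγ, hfb, mul_inv_cancel₀ hγ0, CharTwo.add_self_eq_zero, zero_smul, hb, smul_smul,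
        mul_inv_cancel₀ hγ0, one_smul, vadd_self, zero_add, zero_add]
    have e2 : app (U a b (f b) * U e c (g c)) w = (w + (ω w c * γ⁻¹) • c) + ω w c • e := by
      rw [app_mul, app_U hec, w_comm e w, hew, app_add, app_add, app_add, app_smul, app_smul,
        app_smul, P.app_f hab heb, app_U hab _ w, w_comm a w, haw, hfb, hb, f_smul_right]
      simp only [mul_zero, zero_smul, add_zero]
      match_scalars <;> ring_nf <;> simp [two_zero]
    rw [e1, e2, U_smul (by
      rw [f_add_right, f_add_right, hew, f_smul_right, f_smul_right, hec, f_self]; simp),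
      smul_add, smul_smul, U_shift (by
      rw [smul_add, f_add_right, f_smul_right, f_smul_right, f_smul_right, hew, hec]; simp)] at h1
    have k1 : ω a (γ • w + ω w c • c) = 0 := by rw [f_add_right, hsA _ haw, hsA _ hac, add_zero]
    have k2 : ω e (γ • w + ω w c • c) = 0 := by rw [f_add_right, hsE _ hew, hsE _ hec, add_zero]
    have ev : γ • (w + (ω w c * γ⁻¹) • c) = γ • w + ω w c • c := by
      rw [smul_add, smul_smul, mul_left_comm, mul_inv_cancel₀ hγ0, mul_one]
    rw [ev] at h1
    have h2 := tfree_unique hT' k2 (P.hg _ k1 k2) h1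
    rw [P.symm.f_add hT' (hsE _ hew) (hsA _ haw) (hsE _ hec) (hsA _ hac), f_smul_left,
      f_smul_right] at h2
    linear_combination g (γ • w) * two_zero (F := F) - h2
  have sq : ∀ c, ω a c = 0 → ω e c = 0 → ∀ x : F, g (x • c) = x * x * g c := by
    intro c hac hec x
    by_cases hc : c = 0
    · rw [hc, smul_zero, P.symm.f_zero hT', mul_zero]
    obtain ⟨z, hz⟩ : ∃ z, ω c z ≠ 0 := by
      by_contra hz
      push Not at hz
      exact hc (eq_zero_of_f c hz)
    obtain ⟨d, hd⟩ : ∃ d, d = pr a e z := ⟨_, rfl⟩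
    have hcd : ω c d ≠ 0 := by rw [hd, f_pr hac hec]; exact hz
    have had : ω a d = 0 := hd ▸ pr_left P.ae z
    have hed : ω e d = 0 := hd ▸ pr_right P.ae z
    have hd0 : d ≠ 0 := fun h => hcd (by rw [h, f_zero_right])
    obtain ⟨s, hs⟩ := hit d had hed hd0 (g c)
    have hgc : g c ≠ 0 := fun h => hc (nz P hA c hac hec h)
    have hs0 : s ≠ 0 := fun h => hgc (by rw [← hs, h, zero_smul, P.symm.f_zero hT'])
    obtain ⟨w, hw⟩ : ∃ w, w = (x / ω c d) • d := ⟨_, rfl⟩
    have h1 := EQ c hac hec hc w (hw ▸ hsA _ had) (hw ▸ hsE _ hed)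
    have h2 := EQ (s • d) (hsA s had) (hsE s hed) (smul_ne_zero hs0 hd0) w (hw ▸ hsA _ had)
      (hw ▸ hsE _ hed)
    have e1 : ω w c = x := by rw [hw, f_smul_left, w_comm c d, div_mul_cancel₀ _ hcd]
    have e2 : ω w (s • d) = 0 := by rw [hw, f_smul_left, f_smul_right, f_self, mul_zero, mul_zero]
    rw [e1] at h1
    rw [e2, hs, zero_smul, P.symm.f_zero hT', mul_zero, mul_zero, add_zero] at h2
    rw [h2] at h1
    linear_combination -h1 - (x * x * g c) * two_zero (F := F)
  have fg : ∀ w, ω a w = 0 → ω e w = 0 → f w = g w := by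
    intro w haw hew
    obtain ⟨c, hac, hec, hwc, hc⟩ := exists_ne_in (a := a) (e := e) hm w
    have h := EQ c hac hec hc w haw hew
    rw [hwc, zero_smul, P.symm.f_zero hT', mul_zero, mul_zero, add_zero, sq w haw hew] at h
    have hgc : g c ≠ 0 := fun h => hc (nz P hA c hac hec h)
    have h' : g c * g c * (f w + g w) = 0 := by linear_combination h
    exact CharTwo.add_eq_zero.1 ((mul_eq_zero.1 h').resolve_left (mul_ne_zero hgc hgc))
  exact ⟨fg b hab heb, fun t => by
    rw [fg _ (hsA t hab) (hsE t heb), fg b hab heb, sq b hab heb]⟩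

/-- The two functions are one quadratic form. -/
theorem Pair.quad (hm : 2 ≤ m) (hZ : Zero L a) {b : V} (hab : ω a b = 0) (heb : ω e b = 0) :
    f b = g b ∧ ∀ t : F, f (t • b) = t * t * f b := by
  by_cases hA : ∀ u v, Orb L a u → Orb L a v → ω u v = 0 → ∃ c : F, v = c • u
  · exact P.quad_of_aniso hT hm hA hab heb
  push Not at hA
  obtain ⟨u, v, hu, hv, huv, hi⟩ := hA
  obtain ⟨l, hl, d, hd, rfl⟩ := hu
  obtain ⟨R, hR⟩ : ∃ R, R = app l⁻¹ v := ⟨_, rfl⟩
  have haR : ω a R = 0 := by
    rw [hR, ← f_app l, app_inv']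
    rw [f_smul_left] at huv
    exact (mul_eq_zero.1 huv).resolve_left hd
  have hiR : ∀ c : F, R ≠ c • a := fun c h => hi (c / d) (by
    rw [smul_smul, div_mul_cancel₀ _ hd, ← app_smul, ← h, hR, app_inv'])
  obtain ⟨y, hy⟩ : ∃ y, y = pr a e R := ⟨_, rfl⟩
  have hy' : y = R + ω R e • a := by
    rw [hy, pr, w_comm a R, haR, zero_smul, add_zero]
  refine P.quad_of_zero hT hZ (hy ▸ pr_left P.ae R) (hy ▸ pr_right P.ae R) (fun h => ?_)
    (fun t => ?_) hab heb
  · rw [hy'] at h
    exact hiR (ω R e) (by simpa [add_assoc, vadd_self] using congrArg (· + ω R e • a) h)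
  · have h := hZ a R orb_self (by rw [hR]; exact orb_app hv (L.inv_mem hl)) haR t
    have k : ω a (t • R) = 0 := by rw [f_smul_right, haR, mul_zero]
    rw [← U_shift k (t * ω R e), ← smul_smul, ← smul_add, ← hy'] at h
    exact (P.f_eq hT (by rw [f_smul_right, hy, pr_left P.ae, mul_zero])
      (by rw [f_smul_right, hy, pr_right P.ae, mul_zero]) h).symm

end CfsgLib.Classical.SympGraph
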