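import Cfsg.Agent.Lib.Classical.SympGraph.Basic

set_option autoImplicit false

/-!
Orders of the groups generated by two graphs in dimension four over two elements: certificates.
-/

namespace CfsgLib.Classical.SympGraph.Data

open Matrix Cfsg SympTrans

local notation "ι" => (Fin 2 ⊕ Fin 2)
local notation "G₂" => Matrix.symplecticGroup (Fin 2) (ZMod 2)

/-- The position of an index. -/
def idx : ι → ℕ := Sum.elim (fun i => i.val) (fun i => 2 + i.val)

/-- The matrix with the given bits. -/
def lit (c : ℕ) : Matrix ι ι (ZMod 2) :=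
  Matrix.of fun i j => if c.testBit (4 * idx i + idx j) then 1 else 0

/-- The standard basis vectors `a`, `y`, `e`, `z`. -/
def v₀ : ι → ZMod 2 := Pi.single (.inl 0) 1
/-- Second basis vector. -/
def v₁ : ι → ZMod 2 := Pi.single (.inl 1) 1
/-- Third basis vector. -/
def v₂ : ι → ZMod 2 := Pi.single (.inr 0) 1
/-- Fourth basis vector. -/
def v₃ : ι → ZMod 2 := Pi.single (.inr 1) 1

/-- Matrices of elements of `H`. -/
def InH (H : Subgroup G₂) (A : Matrix ι ι (ZMod 2)) : Prop := ∃ g ∈ H, (g : Matrix ι ι (ZMod 2)) = A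

theorem InH.mul {H : Subgroup G₂} {A B C : Matrix ι ι (ZMod 2)} (ha : InH H A) (hb : InH H B)
    (h : A * B = C) : InH H C := by
  obtain ⟨g, hg, rfl⟩ := ha
  obtain ⟨k, hk, rfl⟩ := hb
  exact ⟨g * k, H.mul_mem hg hk, h⟩

theorem dvd_of_list {H : Subgroup G₂} (l : List ℕ) (hn : (l.map lit).Nodup)
    (hone : (1 : Matrix ι ι (ZMod 2)) ∈ l.map lit)
    (hmul : ∀ c ∈ l, ∀ d ∈ l, lit c * lit d ∈ l.map lit) (hmem : ∀ c ∈ l, InH H (lit c)) :
    l.length ∣ Nat.card H := by
  let P : Submonoid G₂ :=
    { carrier := {g | (g : Matrix ι ι (ZMod 2)) ∈ l.map lit}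
      one_mem' := hone
      mul_mem' := fun {g k} hg hk => by
        obtain ⟨c, hc, hc'⟩ := List.mem_map.1 hg
        obtain ⟨d, hd, hd'⟩ := List.mem_map.1 hk
        show (g : Matrix ι ι (ZMod 2)) * (k : Matrix ι ι (ZMod 2)) ∈ l.map lit
        rw [← hc', ← hd']
        exact hmul c hc d hd }
  let S : Subgroup G₂ :=
    { P with
      inv_mem' := fun {g} hg => by
        show g⁻¹ ∈ P
        have : g⁻¹ ∈ Submonoid.powers g := mem_powers_iff_mem_zpowers.2 (inv_mem (Subgroup.mem_zpowers g))
        obtain ⟨n, hn⟩ := this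
        rw [← hn]
        exact pow_mem (show g ∈ P from hg) n }
  have hle : S ≤ H := fun g hg => by
    obtain ⟨c, hc, hc'⟩ := List.mem_map.1 (show (g : Matrix ι ι (ZMod 2)) ∈ l.map lit from hg)
    obtain ⟨k, hk, hk'⟩ := hmem c hc
    rwa [← Subtype.ext (hk'.trans hc')]
  refine dvd_trans (dvd_of_eq ?_) (Subgroup.card_dvd_of_le hle)
  have : Nat.card S = Nat.card {A : Matrix ι ι (ZMod 2) // A ∈ l.map lit} := by
    refine Nat.card_congr (Equiv.ofBijective (fun g => ⟨((g : G₂) : Matrix ι ι (ZMod 2)), g.2⟩)
      ⟨fun g k h => Subtype.ext (Subtype.ext (congrArg Subtype.val h :)), fun A => ?_⟩)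
    obtain ⟨c, hc, hc'⟩ := List.mem_map.1 A.2
    obtain ⟨k, hk, hk'⟩ := hmem c hc
    exact ⟨⟨k, show (k : Matrix ι ι (ZMod 2)) ∈ l.map lit by rw [hk', hc']; exact A.2⟩,
      Subtype.ext (hk'.trans hc')⟩
  rw [this, Nat.card_eq_fintype_card, Fintype.card_of_subtype (l.map lit).toFinset (fun _ => List.mem_toFinset),
    List.toFinset_card_of_nodup hn, List.length_map]

theorem case0 (H : Subgroup G₂) (hy : U v₀ v₁ (0 : ZMod 2) ∈ H) (hz : U v₀ v₃ (0 : ZMod 2) ∈ H)
    (hy' : U v₂ v₁ (0 : ZMod 2) ∈ H) (hz' : U v₂ v₃ (0 : ZMod 2) ∈ H) : 36 ∣ Nat.card H := by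
  have s0 : InH H (lit 33897) := ⟨_, hy, by decide +kernel⟩
  have s1 : InH H (lit 50211) := ⟨_, hz, by decide +kernel⟩
  have s2 : InH H (lit 35889) := ⟨_, hy', by decide +kernel⟩
  have s3 : InH H (lit 38433) := ⟨_, hz', by decide +kernel⟩
  have x33825 : InH H (lit 33825) := ⟨1, H.one_mem, by decide +kernel⟩
  have x33897 : InH H (lit 33897) := InH.mul x33825 s0 (by decide +kernel)
  have x50211 : InH H (lit 50211) := InH.mul x33825 s1 (by decide +kernel)
  have x35889 : InH H (lit 35889) := InH.mul x33825 s2 (by decide +kernel)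
  have x38433 : InH H (lit 38433) := InH.mul x33825 s3 (by decide +kernel)
  have x50287 : InH H (lit 50287) := InH.mul x33897 s1 (by decide +kernel)
  have x36089 : InH H (lit 36089) := InH.mul x33897 s2 (by decide +kernel)
  have x38472 : InH H (lit 38472) := InH.mul x33897 s3 (by decide +kernel)
  have x19506 : InH H (lit 19506) := InH.mul x50211 s2 (by decide +kernel)
  have x51219 : InH H (lit 51219) := InH.mul x35889 s1 (by decide +kernel)
  have x4713 : InH H (lit 4713) := InH.mul x38433 s0 (by decide +kernel)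
  have x19702 : InH H (lit 19702) := InH.mul x50287 s2 (by decide +kernel)
  have x51359 : InH H (lit 51359) := InH.mul x36089 s1 (by decide +kernel)
  have x28466 : InH H (lit 28466) := InH.mul x19506 s3 (by decide +kernel)
  have x63763 : InH H (lit 63763) := InH.mul x51219 s3 (by decide +kernel)
  have x28612 : InH H (lit 28612) := InH.mul x19702 s3 (by decide +kernel)
  have x63884 : InH H (lit 63884) := InH.mul x51359 s3 (by decide +kernel)
  have x9206 : InH H (lit 9206) := InH.mul x28466 s0 (by decide +kernel)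
  have x12703 : InH H (lit 12703) := InH.mul x63763 s0 (by decide +kernel)
  have d0 : 4 ∣ Nat.card H := dvd_of_list [33825, 33897, 50211, 50287] (by decide +kernel) (by decide +kernel)
    (by decide +kernel) (by simp only [List.forall_mem_cons]; exact ⟨x33825, x33897, x50211, x50287, List.forall_mem_nil _⟩)
  have d1 : 9 ∣ Nat.card H := dvd_of_list [33825, 38472, 19506, 4713, 28612, 51219, 9206, 63884, 12703] (by decide +kernel) (by decide +kernel)
    (by decide +kernel) (by simp only [List.forall_mem_cons]; exact ⟨x33825, x38472, x19506, x4713, x28612, x51219, x9206, x63884, x12703, List.forall_mem_nil _⟩)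
  exact (by norm_num : Nat.Coprime 4 9).mul_dvd_of_dvd_of_dvd d0 d1

theorem case1 (H : Subgroup G₂) (hy : U v₀ v₁ (0 : ZMod 2) ∈ H) (hz : U v₀ v₃ (0 : ZMod 2) ∈ H)
    (hy' : U v₂ v₁ (0 : ZMod 2) ∈ H) (hz' : U v₂ v₃ (1 : ZMod 2) ∈ H) : 120 ∣ Nat.card H := by
  have s0 : InH H (lit 33897) := ⟨_, hy, by decide +kernel⟩
  have s1 : InH H (lit 50211) := ⟨_, hz, by decide +kernel⟩
  have s2 : InH H (lit 35889) := ⟨_, hy', by decide +kernel⟩
  have s3 : InH H (lit 38689) := ⟨_, hz', by decide +kernel⟩
  have x33825 : InH H (lit 33825) := ⟨1, H.one_mem, by decide +kernel⟩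
  have x33897 : InH H (lit 33897) := InH.mul x33825 s0 (by decide +kernel)
  have x50211 : InH H (lit 50211) := InH.mul x33825 s1 (by decide +kernel)
  have x35889 : InH H (lit 35889) := InH.mul x33825 s2 (by decide +kernel)
  have x38689 : InH H (lit 38689) := InH.mul x33825 s3 (by decide +kernel)
  have x50287 : InH H (lit 50287) := InH.mul x33897 s1 (by decide +kernel)
  have x38744 : InH H (lit 38744) := InH.mul x33897 s3 (by decide +kernel)
  have x19506 : InH H (lit 19506) := InH.mul x50211 s2 (by decide +kernel)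
  have x51219 : InH H (lit 51219) := InH.mul x35889 s1 (by decide +kernel)
  have x7017 : InH H (lit 7017) := InH.mul x38689 s0 (by decide +kernel)
  have x19702 : InH H (lit 19702) := InH.mul x50287 s2 (by decide +kernel)
  have x59229 : InH H (lit 59229) := InH.mul x50287 s3 (by decide +kernel)
  have x7128 : InH H (lit 7128) := InH.mul x38744 s0 (by decide +kernel)
  have x18450 : InH H (lit 18450) := InH.mul x19506 s1 (by decide +kernel)
  have x15727 : InH H (lit 15727) := InH.mul x7017 s1 (by decide +kernel)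
  have x18582 : InH H (lit 18582) := InH.mul x19702 s1 (by decide +kernel)
  have x43989 : InH H (lit 43989) := InH.mul x59229 s0 (by decide +kernel)
  have x15804 : InH H (lit 15804) := InH.mul x7128 s1 (by decide +kernel)
  have x16221 : InH H (lit 16221) := InH.mul x15727 s3 (by decide +kernel)
  have x60855 : InH H (lit 60855) := InH.mul x43989 s1 (by decide +kernel)
  have x16302 : InH H (lit 16302) := InH.mul x15804 s3 (by decide +kernel)
  have x62421 : InH H (lit 62421) := InH.mul x16221 s0 (by decide +kernel)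
  have x53156 : InH H (lit 53156) := InH.mul x60855 s3 (by decide +kernel)
  have x62442 : InH H (lit 62442) := InH.mul x16302 s0 (by decide +kernel)
  have x37303 : InH H (lit 37303) := InH.mul x62421 s1 (by decide +kernel)
  have d0 : 8 ∣ Nat.card H := dvd_of_list [33825, 33897, 16221, 16302, 62421, 62442, 18450, 18582] (by decide +kernel) (by decide +kernel)
    (by decide +kernel) (by simp only [List.forall_mem_cons]; exact ⟨x33825, x33897, x16221, x16302, x62421, x62442, x18450, x18582, List.forall_mem_nil _⟩)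
  have d1 : 3 ∣ Nat.card H := dvd_of_list [33825, 19506, 51219] (by decide +kernel) (by decide +kernel)
    (by decide +kernel) (by simp only [List.forall_mem_cons]; exact ⟨x33825, x19506, x51219, List.forall_mem_nil _⟩)
  have d2 : 5 ∣ Nat.card H := dvd_of_list [33825, 59229, 53156, 37303, 15727] (by decide +kernel) (by decide +kernel)
    (by decide +kernel) (by simp only [List.forall_mem_cons]; exact ⟨x33825, x59229, x53156, x37303, x15727, List.forall_mem_nil _⟩)
  exact (by norm_num : Nat.Coprime 24 5).mul_dvd_of_dvd_of_dvd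
    ((by norm_num : Nat.Coprime 8 3).mul_dvd_of_dvd_of_dvd d0 d1) d2

theorem case2 (H : Subgroup G₂) (hy : U v₀ v₁ (0 : ZMod 2) ∈ H) (hz : U v₀ v₃ (0 : ZMod 2) ∈ H)
    (hy' : U v₂ v₁ (1 : ZMod 2) ∈ H) (hz' : U v₂ v₃ (0 : ZMod 2) ∈ H) : 120 ∣ Nat.card H := by
  have s0 : InH H (lit 33897) := ⟨_, hy, by decide +kernel⟩
  have s1 : InH H (lit 50211) := ⟨_, hz, by decide +kernel⟩
  have s2 : InH H (lit 36145) := ⟨_, hy', by decide +kernel⟩
  have s3 : InH H (lit 38433) := ⟨_, hz', by decide +kernel⟩
  have x33825 : InH H (lit 33825) := ⟨1, H.one_mem, by decide +kernel⟩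
  have x33897 : InH H (lit 33897) := InH.mul x33825 s0 (by decide +kernel)
  have x36145 : InH H (lit 36145) := InH.mul x33825 s2 (by decide +kernel)
  have x38433 : InH H (lit 38433) := InH.mul x33825 s3 (by decide +kernel)
  have x50287 : InH H (lit 50287) := InH.mul x33897 s1 (by decide +kernel)
  have x36329 : InH H (lit 36329) := InH.mul x33897 s2 (by decide +kernel)
  have x38472 : InH H (lit 38472) := InH.mul x33897 s3 (by decide +kernel)
  have x34297 : InH H (lit 34297) := InH.mul x36145 s0 (by decide +kernel)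
  have x4713 : InH H (lit 4713) := InH.mul x38433 s0 (by decide +kernel)
  have x24039 : InH H (lit 24039) := InH.mul x50287 s2 (by decide +kernel)
  have x34209 : InH H (lit 34209) := InH.mul x36329 s0 (by decide +kernel)
  have x51103 : InH H (lit 51103) := InH.mul x34297 s1 (by decide +kernel)
  have x35961 : InH H (lit 35961) := InH.mul x34297 s2 (by decide +kernel)
  have x54699 : InH H (lit 54699) := InH.mul x24039 s0 (by decide +kernel)
  have x36017 : InH H (lit 36017) := InH.mul x34209 s2 (by decide +kernel)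
  have x24471 : InH H (lit 24471) := InH.mul x51103 s2 (by decide +kernel)
  have x47085 : InH H (lit 47085) := InH.mul x54699 s1 (by decide +kernel)
  have x54043 : InH H (lit 54043) := InH.mul x24471 s0 (by decide +kernel)
  have x44900 : InH H (lit 44900) := InH.mul x47085 s2 (by decide +kernel)
  have x45373 : InH H (lit 45373) := InH.mul x54043 s1 (by decide +kernel)
  have d0 : 8 ∣ Nat.card H := dvd_of_list [33825, 33897, 36145, 36329, 34297, 34209, 35961, 36017] (by decide +kernel) (by decide +kernel)
    (by decide +kernel) (by simp only [List.forall_mem_cons]; exact ⟨x33825, x33897, x36145, x36329, x34297, x34209, x35961, x36017, List.forall_mem_nil _⟩)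
  have d1 : 3 ∣ Nat.card H := dvd_of_list [33825, 38472, 4713] (by decide +kernel) (by decide +kernel)
    (by decide +kernel) (by simp only [List.forall_mem_cons]; exact ⟨x33825, x38472, x4713, List.forall_mem_nil _⟩)
  have d2 : 5 ∣ Nat.card H := dvd_of_list [33825, 24039, 44900, 45373, 51103] (by decide +kernel) (by decide +kernel)
    (by decide +kernel) (by simp only [List.forall_mem_cons]; exact ⟨x33825, x24039, x44900, x45373, x51103, List.forall_mem_nil _⟩)
  exact (by norm_num : Nat.Coprime 24 5).mul_dvd_of_dvd_of_dvd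
    ((by norm_num : Nat.Coprime 8 3).mul_dvd_of_dvd_of_dvd d0 d1) d2

theorem case3 (H : Subgroup G₂) (hy : U v₀ v₁ (0 : ZMod 2) ∈ H) (hz : U v₀ v₃ (0 : ZMod 2) ∈ H)
    (hy' : U v₂ v₁ (1 : ZMod 2) ∈ H) (hz' : U v₂ v₃ (1 : ZMod 2) ∈ H) : 120 ∣ Nat.card H := by
  have s0 : InH H (lit 33897) := ⟨_, hy, by decide +kernel⟩
  have s1 : InH H (lit 50211) := ⟨_, hz, by decide +kernel⟩
  have s2 : InH H (lit 36145) := ⟨_, hy', by decide +kernel⟩
  have s3 : InH H (lit 38689) := ⟨_, hz', by decide +kernel⟩
  have x33825 : InH H (lit 33825) := ⟨1, H.one_mem, by decide +kernel⟩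
  have x33897 : InH H (lit 33897) := InH.mul x33825 s0 (by decide +kernel)
  have x36145 : InH H (lit 36145) := InH.mul x33825 s2 (by decide +kernel)
  have x50287 : InH H (lit 50287) := InH.mul x33897 s1 (by decide +kernel)
  have x36329 : InH H (lit 36329) := InH.mul x33897 s2 (by decide +kernel)
  have x34297 : InH H (lit 34297) := InH.mul x36145 s0 (by decide +kernel)
  have x40753 : InH H (lit 40753) := InH.mul x36145 s3 (by decide +kernel)
  have x24039 : InH H (lit 24039) := InH.mul x50287 s2 (by decide +kernel)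
  have x34209 : InH H (lit 34209) := InH.mul x36329 s0 (by decide +kernel)
  have x51103 : InH H (lit 51103) := InH.mul x34297 s1 (by decide +kernel)
  have x35961 : InH H (lit 35961) := InH.mul x34297 s2 (by decide +kernel)
  have x5113 : InH H (lit 5113) := InH.mul x40753 s0 (by decide +kernel)
  have x54699 : InH H (lit 54699) := InH.mul x24039 s0 (by decide +kernel)
  have x28612 : InH H (lit 28612) := InH.mul x24039 s3 (by decide +kernel)
  have x36017 : InH H (lit 36017) := InH.mul x34209 s2 (by decide +kernel)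
  have x24471 : InH H (lit 24471) := InH.mul x51103 s2 (by decide +kernel)
  have x12703 : InH H (lit 12703) := InH.mul x5113 s1 (by decide +kernel)
  have x47085 : InH H (lit 47085) := InH.mul x54699 s1 (by decide +kernel)
  have x54043 : InH H (lit 54043) := InH.mul x24471 s0 (by decide +kernel)
  have x44900 : InH H (lit 44900) := InH.mul x47085 s2 (by decide +kernel)
  have x45373 : InH H (lit 45373) := InH.mul x54043 s1 (by decide +kernel)
  have d0 : 8 ∣ Nat.card H := dvd_of_list [33825, 33897, 36145, 36329, 34297, 34209, 35961, 36017] (by decide +kernel) (by decide +kernel)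
    (by decide +kernel) (by simp only [List.forall_mem_cons]; exact ⟨x33825, x33897, x36145, x36329, x34297, x34209, x35961, x36017, List.forall_mem_nil _⟩)
  have d1 : 3 ∣ Nat.card H := dvd_of_list [33825, 28612, 12703] (by decide +kernel) (by decide +kernel)
    (by decide +kernel) (by simp only [List.forall_mem_cons]; exact ⟨x33825, x28612, x12703, List.forall_mem_nil _⟩)
  have d2 : 5 ∣ Nat.card H := dvd_of_list [33825, 24039, 44900, 45373, 51103] (by decide +kernel) (by decide +kernel)
    (by decide +kernel) (by simp only [List.forall_mem_cons]; exact ⟨x33825, x24039, x44900, x45373, x51103, List.forall_mem_nil _⟩)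
  exact (by norm_num : Nat.Coprime 24 5).mul_dvd_of_dvd_of_dvd
    ((by norm_num : Nat.Coprime 8 3).mul_dvd_of_dvd_of_dvd d0 d1) d2

theorem case4 (H : Subgroup G₂) (hy : U v₀ v₁ (0 : ZMod 2) ∈ H) (hz : U v₀ v₃ (1 : ZMod 2) ∈ H)
    (hy' : U v₂ v₁ (0 : ZMod 2) ∈ H) (hz' : U v₂ v₃ (0 : ZMod 2) ∈ H) : 120 ∣ Nat.card H := by
  have s0 : InH H (lit 33897) := ⟨_, hy, by decide +kernel⟩
  have s1 : InH H (lit 50215) := ⟨_, hz, by decide +kernel⟩
  have s2 : InH H (lit 35889) := ⟨_, hy', by decide +kernel⟩
  have s3 : InH H (lit 38433) := ⟨_, hz', by decide +kernel⟩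
  have x33825 : InH H (lit 33825) := ⟨1, H.one_mem, by decide +kernel⟩
  have x33897 : InH H (lit 33897) := InH.mul x33825 s0 (by decide +kernel)
  have x50215 : InH H (lit 50215) := InH.mul x33825 s1 (by decide +kernel)
  have x35889 : InH H (lit 35889) := InH.mul x33825 s2 (by decide +kernel)
  have x38433 : InH H (lit 38433) := InH.mul x33825 s3 (by decide +kernel)
  have x50283 : InH H (lit 50283) := InH.mul x33897 s1 (by decide +kernel)
  have x38472 : InH H (lit 38472) := InH.mul x33897 s3 (by decide +kernel)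
  have x19518 : InH H (lit 19518) := InH.mul x50215 s2 (by decide +kernel)
  have x63013 : InH H (lit 63013) := InH.mul x50215 s3 (by decide +kernel)
  have x40753 : InH H (lit 40753) := InH.mul x35889 s3 (by decide +kernel)
  have x4713 : InH H (lit 4713) := InH.mul x38433 s0 (by decide +kernel)
  have x46631 : InH H (lit 46631) := InH.mul x38433 s1 (by decide +kernel)
  have x46668 : InH H (lit 46668) := InH.mul x38472 s1 (by decide +kernel)
  have x28477 : InH H (lit 28477) := InH.mul x19518 s3 (by decide +kernel)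
  have x54819 : InH H (lit 54819) := InH.mul x63013 s1 (by decide +kernel)
  have x48471 : InH H (lit 48471) := InH.mul x40753 s1 (by decide +kernel)
  have x42021 : InH H (lit 42021) := InH.mul x46631 s3 (by decide +kernel)
  have x42095 : InH H (lit 42095) := InH.mul x46668 s3 (by decide +kernel)
  have x27999 : InH H (lit 27999) := InH.mul x28477 s1 (by decide +kernel)
  have x58403 : InH H (lit 58403) := InH.mul x54819 s3 (by decide +kernel)
  have x42462 : InH H (lit 42462) := InH.mul x48471 s2 (by decide +kernel)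
  have x58477 : InH H (lit 58477) := InH.mul x42021 s0 (by decide +kernel)
  have x62934 : InH H (lit 62934) := InH.mul x27999 s2 (by decide +kernel)
  have x47085 : InH H (lit 47085) := InH.mul x42462 s3 (by decide +kernel)
  have x51172 : InH H (lit 51172) := InH.mul x62934 s3 (by decide +kernel)
  have x37295 : InH H (lit 37295) := InH.mul x47085 s1 (by decide +kernel)
  have d0 : 8 ∣ Nat.card H := dvd_of_list [33825, 33897, 42021, 42095, 58477, 58403, 50283, 50215] (by decide +kernel) (by decide +kernel)
    (by decide +kernel) (by simp only [List.forall_mem_cons]; exact ⟨x33825, x33897, x42021, x42095, x58477, x58403, x50283, x50215, List.forall_mem_nil _⟩)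
  have d1 : 3 ∣ Nat.card H := dvd_of_list [33825, 38472, 4713] (by decide +kernel) (by decide +kernel)
    (by decide +kernel) (by simp only [List.forall_mem_cons]; exact ⟨x33825, x38472, x4713, List.forall_mem_nil _⟩)
  have d2 : 5 ∣ Nat.card H := dvd_of_list [33825, 28477, 51172, 37295, 48471] (by decide +kernel) (by decide +kernel)
    (by decide +kernel) (by simp only [List.forall_mem_cons]; exact ⟨x33825, x28477, x51172, x37295, x48471, List.forall_mem_nil _⟩)
  exact (by norm_num : Nat.Coprime 24 5).mul_dvd_of_dvd_of_dvd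
    ((by norm_num : Nat.Coprime 8 3).mul_dvd_of_dvd_of_dvd d0 d1) d2

theorem case5 (H : Subgroup G₂) (hy : U v₀ v₁ (0 : ZMod 2) ∈ H) (hz : U v₀ v₃ (1 : ZMod 2) ∈ H)
    (hy' : U v₂ v₁ (0 : ZMod 2) ∈ H) (hz' : U v₂ v₃ (1 : ZMod 2) ∈ H) : 36 ∣ Nat.card H := by
  have s0 : InH H (lit 33897) := ⟨_, hy, by decide +kernel⟩
  have s1 : InH H (lit 50215) := ⟨_, hz, by decide +kernel⟩
  have s2 : InH H (lit 35889) := ⟨_, hy', by decide +kernel⟩
  have s3 : InH H (lit 38689) := ⟨_, hz', by decide +kernel⟩
  have x33825 : InH H (lit 33825) := ⟨1, H.one_mem, by decide +kernel⟩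
  have x33897 : InH H (lit 33897) := InH.mul x33825 s0 (by decide +kernel)
  have x50215 : InH H (lit 50215) := InH.mul x33825 s1 (by decide +kernel)
  have x35889 : InH H (lit 35889) := InH.mul x33825 s2 (by decide +kernel)
  have x38689 : InH H (lit 38689) := InH.mul x33825 s3 (by decide +kernel)
  have x50283 : InH H (lit 50283) := InH.mul x33897 s1 (by decide +kernel)
  have x36089 : InH H (lit 36089) := InH.mul x33897 s2 (by decide +kernel)
  have x38744 : InH H (lit 38744) := InH.mul x33897 s3 (by decide +kernel)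
  have x59172 : InH H (lit 59172) := InH.mul x50215 s3 (by decide +kernel)
  have x40497 : InH H (lit 40497) := InH.mul x35889 s3 (by decide +kernel)
  have x45351 : InH H (lit 45351) := InH.mul x38689 s1 (by decide +kernel)
  have x19706 : InH H (lit 19706) := InH.mul x50283 s2 (by decide +kernel)
  have x59226 : InH H (lit 59226) := InH.mul x50283 s3 (by decide +kernel)
  have x51419 : InH H (lit 51419) := InH.mul x36089 s1 (by decide +kernel)
  have x40664 : InH H (lit 40664) := InH.mul x36089 s3 (by decide +kernel)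
  have x7128 : InH H (lit 7128) := InH.mul x38744 s0 (by decide +kernel)
  have x6905 : InH H (lit 6905) := InH.mul x40497 s0 (by decide +kernel)
  have x43998 : InH H (lit 43998) := InH.mul x59226 s0 (by decide +kernel)
  have x31228 : InH H (lit 31228) := InH.mul x7128 s1 (by decide +kernel)
  have d0 : 4 ∣ Nat.card H := dvd_of_list [33825, 33897, 50215, 50283] (by decide +kernel) (by decide +kernel)
    (by decide +kernel) (by simp only [List.forall_mem_cons]; exact ⟨x33825, x33897, x50215, x50283, List.forall_mem_nil _⟩)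
  have d1 : 9 ∣ Nat.card H := dvd_of_list [33825, 59172, 19706, 45351, 31228, 51419, 6905, 40664, 43998] (by decide +kernel) (by decide +kernel)
    (by decide +kernel) (by simp only [List.forall_mem_cons]; exact ⟨x33825, x59172, x19706, x45351, x31228, x51419, x6905, x40664, x43998, List.forall_mem_nil _⟩)
  exact (by norm_num : Nat.Coprime 4 9).mul_dvd_of_dvd_of_dvd d0 d1

theorem case6 (H : Subgroup G₂) (hy : U v₀ v₁ (0 : ZMod 2) ∈ H) (hz : U v₀ v₃ (1 : ZMod 2) ∈ H)
    (hy' : U v₂ v₁ (1 : ZMod 2) ∈ H) (hz' : U v₂ v₃ (0 : ZMod 2) ∈ H) : 120 ∣ Nat.card H := by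
  have s0 : InH H (lit 33897) := ⟨_, hy, by decide +kernel⟩
  have s1 : InH H (lit 50215) := ⟨_, hz, by decide +kernel⟩
  have s2 : InH H (lit 36145) := ⟨_, hy', by decide +kernel⟩
  have s3 : InH H (lit 38433) := ⟨_, hz', by decide +kernel⟩
  have x33825 : InH H (lit 33825) := ⟨1, H.one_mem, by decide +kernel⟩
  have x33897 : InH H (lit 33897) := InH.mul x33825 s0 (by decide +kernel)
  have x50215 : InH H (lit 50215) := InH.mul x33825 s1 (by decide +kernel)
  have x36145 : InH H (lit 36145) := InH.mul x33825 s2 (by decide +kernel)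
  have x38433 : InH H (lit 38433) := InH.mul x33825 s3 (by decide +kernel)
  have x36329 : InH H (lit 36329) := InH.mul x33897 s2 (by decide +kernel)
  have x38472 : InH H (lit 38472) := InH.mul x33897 s3 (by decide +kernel)
  have x23871 : InH H (lit 23871) := InH.mul x50215 s2 (by decide +kernel)
  have x34297 : InH H (lit 34297) := InH.mul x36145 s0 (by decide +kernel)
  have x53079 : InH H (lit 53079) := InH.mul x36145 s1 (by decide +kernel)
  have x4713 : InH H (lit 4713) := InH.mul x38433 s0 (by decide +kernel)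
  have x34209 : InH H (lit 34209) := InH.mul x36329 s0 (by decide +kernel)
  have x16221 : InH H (lit 16221) := InH.mul x23871 s1 (by decide +kernel)
  have x35961 : InH H (lit 35961) := InH.mul x34297 s2 (by decide +kernel)
  have x22479 : InH H (lit 22479) := InH.mul x53079 s2 (by decide +kernel)
  have x36017 : InH H (lit 36017) := InH.mul x34209 s2 (by decide +kernel)
  have x10180 : InH H (lit 10180) := InH.mul x16221 s2 (by decide +kernel)
  have x12685 : InH H (lit 12685) := InH.mul x22479 s1 (by decide +kernel)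
  have d0 : 8 ∣ Nat.card H := dvd_of_list [33825, 33897, 36145, 36329, 34297, 34209, 35961, 36017] (by decide +kernel) (by decide +kernel)
    (by decide +kernel) (by simp only [List.forall_mem_cons]; exact ⟨x33825, x33897, x36145, x36329, x34297, x34209, x35961, x36017, List.forall_mem_nil _⟩)
  have d1 : 3 ∣ Nat.card H := dvd_of_list [33825, 38472, 4713] (by decide +kernel) (by decide +kernel)
    (by decide +kernel) (by simp only [List.forall_mem_cons]; exact ⟨x33825, x38472, x4713, List.forall_mem_nil _⟩)
  have d2 : 5 ∣ Nat.card H := dvd_of_list [33825, 23871, 10180, 12685, 53079] (by decide +kernel) (by decide +kernel)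
    (by decide +kernel) (by simp only [List.forall_mem_cons]; exact ⟨x33825, x23871, x10180, x12685, x53079, List.forall_mem_nil _⟩)
  exact (by norm_num : Nat.Coprime 24 5).mul_dvd_of_dvd_of_dvd
    ((by norm_num : Nat.Coprime 8 3).mul_dvd_of_dvd_of_dvd d0 d1) d2

theorem case7 (H : Subgroup G₂) (hy : U v₀ v₁ (0 : ZMod 2) ∈ H) (hz : U v₀ v₃ (1 : ZMod 2) ∈ H)
    (hy' : U v₂ v₁ (1 : ZMod 2) ∈ H) (hz' : U v₂ v₃ (1 : ZMod 2) ∈ H) : 120 ∣ Nat.card H := by
  have s0 : InH H (lit 33897) := ⟨_, hy, by decide +kernel⟩
  have s1 : InH H (lit 50215) := ⟨_, hz, by decide +kernel⟩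
  have s2 : InH H (lit 36145) := ⟨_, hy', by decide +kernel⟩
  have s3 : InH H (lit 38689) := ⟨_, hz', by decide +kernel⟩
  have x33825 : InH H (lit 33825) := ⟨1, H.one_mem, by decide +kernel⟩
  have x33897 : InH H (lit 33897) := InH.mul x33825 s0 (by decide +kernel)
  have x50215 : InH H (lit 50215) := InH.mul x33825 s1 (by decide +kernel)
  have x36145 : InH H (lit 36145) := InH.mul x33825 s2 (by decide +kernel)
  have x38689 : InH H (lit 38689) := InH.mul x33825 s3 (by decide +kernel)
  have x36329 : InH H (lit 36329) := InH.mul x33897 s2 (by decide +kernel)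
  have x23871 : InH H (lit 23871) := InH.mul x50215 s2 (by decide +kernel)
  have x59172 : InH H (lit 59172) := InH.mul x50215 s3 (by decide +kernel)
  have x34297 : InH H (lit 34297) := InH.mul x36145 s0 (by decide +kernel)
  have x53079 : InH H (lit 53079) := InH.mul x36145 s1 (by decide +kernel)
  have x45351 : InH H (lit 45351) := InH.mul x38689 s1 (by decide +kernel)
  have x34209 : InH H (lit 34209) := InH.mul x36329 s0 (by decide +kernel)
  have x16221 : InH H (lit 16221) := InH.mul x23871 s1 (by decide +kernel)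
  have x35961 : InH H (lit 35961) := InH.mul x34297 s2 (by decide +kernel)
  have x22479 : InH H (lit 22479) := InH.mul x53079 s2 (by decide +kernel)
  have x36017 : InH H (lit 36017) := InH.mul x34209 s2 (by decide +kernel)
  have x10180 : InH H (lit 10180) := InH.mul x16221 s2 (by decide +kernel)
  have x12685 : InH H (lit 12685) := InH.mul x22479 s1 (by decide +kernel)
  have d0 : 8 ∣ Nat.card H := dvd_of_list [33825, 33897, 36145, 36329, 34297, 34209, 35961, 36017] (by decide +kernel) (by decide +kernel)
    (by decide +kernel) (by simp only [List.forall_mem_cons]; exact ⟨x33825, x33897, x36145, x36329, x34297, x34209, x35961, x36017, List.forall_mem_nil _⟩)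
  have d1 : 3 ∣ Nat.card H := dvd_of_list [33825, 59172, 45351] (by decide +kernel) (by decide +kernel)
    (by decide +kernel) (by simp only [List.forall_mem_cons]; exact ⟨x33825, x59172, x45351, List.forall_mem_nil _⟩)
  have d2 : 5 ∣ Nat.card H := dvd_of_list [33825, 23871, 10180, 12685, 53079] (by decide +kernel) (by decide +kernel)
    (by decide +kernel) (by simp only [List.forall_mem_cons]; exact ⟨x33825, x23871, x10180, x12685, x53079, List.forall_mem_nil _⟩)
  exact (by norm_num : Nat.Coprime 24 5).mul_dvd_of_dvd_of_dvd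
    ((by norm_num : Nat.Coprime 8 3).mul_dvd_of_dvd_of_dvd d0 d1) d2

theorem case8 (H : Subgroup G₂) (hy : U v₀ v₁ (1 : ZMod 2) ∈ H) (hz : U v₀ v₃ (0 : ZMod 2) ∈ H)
    (hy' : U v₂ v₁ (0 : ZMod 2) ∈ H) (hz' : U v₂ v₃ (0 : ZMod 2) ∈ H) : 120 ∣ Nat.card H := by
  have s0 : InH H (lit 33901) := ⟨_, hy, by decide +kernel⟩
  have s1 : InH H (lit 50211) := ⟨_, hz, by decide +kernel⟩
  have s2 : InH H (lit 35889) := ⟨_, hy', by decide +kernel⟩
  have s3 : InH H (lit 38433) := ⟨_, hz', by decide +kernel⟩
  have x33825 : InH H (lit 33825) := ⟨1, H.one_mem, by decide +kernel⟩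
  have x33901 : InH H (lit 33901) := InH.mul x33825 s0 (by decide +kernel)
  have x50211 : InH H (lit 50211) := InH.mul x33825 s1 (by decide +kernel)
  have x35889 : InH H (lit 35889) := InH.mul x33825 s2 (by decide +kernel)
  have x36085 : InH H (lit 36085) := InH.mul x33901 s2 (by decide +kernel)
  have x19506 : InH H (lit 19506) := InH.mul x50211 s2 (by decide +kernel)
  have x36029 : InH H (lit 36029) := InH.mul x35889 s0 (by decide +kernel)
  have x51219 : InH H (lit 51219) := InH.mul x35889 s1 (by decide +kernel)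
  have x40753 : InH H (lit 40753) := InH.mul x35889 s3 (by decide +kernel)
  have x35961 : InH H (lit 35961) := InH.mul x36085 s0 (by decide +kernel)
  have x40903 : InH H (lit 40903) := InH.mul x36085 s3 (by decide +kernel)
  have x33957 : InH H (lit 33957) := InH.mul x36029 s2 (by decide +kernel)
  have x22461 : InH H (lit 22461) := InH.mul x40753 s0 (by decide +kernel)
  have x34025 : InH H (lit 34025) := InH.mul x35961 s2 (by decide +kernel)
  have x22479 : InH H (lit 22479) := InH.mul x40903 s0 (by decide +kernel)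
  have x56997 : InH H (lit 56997) := InH.mul x22461 s2 (by decide +kernel)
  have x56902 : InH H (lit 56902) := InH.mul x22479 s2 (by decide +kernel)
  have x60855 : InH H (lit 60855) := InH.mul x56997 s3 (by decide +kernel)
  have x60772 : InH H (lit 60772) := InH.mul x56902 s3 (by decide +kernel)
  have x41279 : InH H (lit 41279) := InH.mul x60855 s0 (by decide +kernel)
  have d0 : 8 ∣ Nat.card H := dvd_of_list [33825, 33901, 35889, 36085, 36029, 35961, 33957, 34025] (by decide +kernel) (by decide +kernel)
    (by decide +kernel) (by simp only [List.forall_mem_cons]; exact ⟨x33825, x33901, x35889, x36085, x36029, x35961, x33957, x34025, List.forall_mem_nil _⟩)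
  have d1 : 3 ∣ Nat.card H := dvd_of_list [33825, 19506, 51219] (by decide +kernel) (by decide +kernel)
    (by decide +kernel) (by simp only [List.forall_mem_cons]; exact ⟨x33825, x19506, x51219, List.forall_mem_nil _⟩)
  have d2 : 5 ∣ Nat.card H := dvd_of_list [33825, 40903, 60772, 41279, 22461] (by decide +kernel) (by decide +kernel)
    (by decide +kernel) (by simp only [List.forall_mem_cons]; exact ⟨x33825, x40903, x60772, x41279, x22461, List.forall_mem_nil _⟩)
  exact (by norm_num : Nat.Coprime 24 5).mul_dvd_of_dvd_of_dvd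
    ((by norm_num : Nat.Coprime 8 3).mul_dvd_of_dvd_of_dvd d0 d1) d2

theorem case9 (H : Subgroup G₂) (hy : U v₀ v₁ (1 : ZMod 2) ∈ H) (hz : U v₀ v₃ (0 : ZMod 2) ∈ H)
    (hy' : U v₂ v₁ (0 : ZMod 2) ∈ H) (hz' : U v₂ v₃ (1 : ZMod 2) ∈ H) : 120 ∣ Nat.card H := by
  have s0 : InH H (lit 33901) := ⟨_, hy, by decide +kernel⟩
  have s1 : InH H (lit 50211) := ⟨_, hz, by decide +kernel⟩
  have s2 : InH H (lit 35889) := ⟨_, hy', by decide +kernel⟩
  have s3 : InH H (lit 38689) := ⟨_, hz', by decide +kernel⟩
  have x33825 : InH H (lit 33825) := ⟨1, H.one_mem, by decide +kernel⟩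
  have x33901 : InH H (lit 33901) := InH.mul x33825 s0 (by decide +kernel)
  have x50211 : InH H (lit 50211) := InH.mul x33825 s1 (by decide +kernel)
  have x35889 : InH H (lit 35889) := InH.mul x33825 s2 (by decide +kernel)
  have x38689 : InH H (lit 38689) := InH.mul x33825 s3 (by decide +kernel)
  have x36085 : InH H (lit 36085) := InH.mul x33901 s2 (by decide +kernel)
  have x38751 : InH H (lit 38751) := InH.mul x33901 s3 (by decide +kernel)
  have x19506 : InH H (lit 19506) := InH.mul x50211 s2 (by decide +kernel)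
  have x36029 : InH H (lit 36029) := InH.mul x35889 s0 (by decide +kernel)
  have x51219 : InH H (lit 51219) := InH.mul x35889 s1 (by decide +kernel)
  have x24429 : InH H (lit 24429) := InH.mul x38689 s0 (by decide +kernel)
  have x35961 : InH H (lit 35961) := InH.mul x36085 s0 (by decide +kernel)
  have x24471 : InH H (lit 24471) := InH.mul x38751 s0 (by decide +kernel)
  have x33957 : InH H (lit 33957) := InH.mul x36029 s2 (by decide +kernel)
  have x27999 : InH H (lit 27999) := InH.mul x24429 s3 (by decide +kernel)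
  have x34025 : InH H (lit 34025) := InH.mul x35961 s2 (by decide +kernel)
  have x28036 : InH H (lit 28036) := InH.mul x24471 s3 (by decide +kernel)
  have x8599 : InH H (lit 8599) := InH.mul x27999 s0 (by decide +kernel)
  have d0 : 8 ∣ Nat.card H := dvd_of_list [33825, 33901, 35889, 36085, 36029, 35961, 33957, 34025] (by decide +kernel) (by decide +kernel)
    (by decide +kernel) (by simp only [List.forall_mem_cons]; exact ⟨x33825, x33901, x35889, x36085, x36029, x35961, x33957, x34025, List.forall_mem_nil _⟩)
  have d1 : 3 ∣ Nat.card H := dvd_of_list [33825, 19506, 51219] (by decide +kernel) (by decide +kernel)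
    (by decide +kernel) (by simp only [List.forall_mem_cons]; exact ⟨x33825, x19506, x51219, List.forall_mem_nil _⟩)
  have d2 : 5 ∣ Nat.card H := dvd_of_list [33825, 38751, 28036, 8599, 24429] (by decide +kernel) (by decide +kernel)
    (by decide +kernel) (by simp only [List.forall_mem_cons]; exact ⟨x33825, x38751, x28036, x8599, x24429, List.forall_mem_nil _⟩)
  exact (by norm_num : Nat.Coprime 24 5).mul_dvd_of_dvd_of_dvd
    ((by norm_num : Nat.Coprime 8 3).mul_dvd_of_dvd_of_dvd d0 d1) d2

theorem case10 (H : Subgroup G₂) (hy : U v₀ v₁ (1 : ZMod 2) ∈ H) (hz : U v₀ v₃ (0 : ZMod 2) ∈ H)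
    (hy' : U v₂ v₁ (1 : ZMod 2) ∈ H) (hz' : U v₂ v₃ (0 : ZMod 2) ∈ H) : 36 ∣ Nat.card H := by
  have s0 : InH H (lit 33901) := ⟨_, hy, by decide +kernel⟩
  have s1 : InH H (lit 50211) := ⟨_, hz, by decide +kernel⟩
  have s2 : InH H (lit 36145) := ⟨_, hy', by decide +kernel⟩
  have s3 : InH H (lit 38433) := ⟨_, hz', by decide +kernel⟩
  have x33825 : InH H (lit 33825) := ⟨1, H.one_mem, by decide +kernel⟩
  have x33901 : InH H (lit 33901) := InH.mul x33825 s0 (by decide +kernel)
  have x50211 : InH H (lit 50211) := InH.mul x33825 s1 (by decide +kernel)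
  have x36145 : InH H (lit 36145) := InH.mul x33825 s2 (by decide +kernel)
  have x50283 : InH H (lit 50283) := InH.mul x33901 s1 (by decide +kernel)
  have x36324 : InH H (lit 36324) := InH.mul x33901 s2 (by decide +kernel)
  have x23858 : InH H (lit 23858) := InH.mul x50211 s2 (by decide +kernel)
  have x63011 : InH H (lit 63011) := InH.mul x50211 s3 (by decide +kernel)
  have x33213 : InH H (lit 33213) := InH.mul x36145 s0 (by decide +kernel)
  have x51987 : InH H (lit 51987) := InH.mul x36145 s1 (by decide +kernel)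
  have x24042 : InH H (lit 24042) := InH.mul x50283 s2 (by decide +kernel)
  have x63050 : InH H (lit 63050) := InH.mul x50283 s3 (by decide +kernel)
  have x37302 : InH H (lit 37302) := InH.mul x23858 s0 (by decide +kernel)
  have x32306 : InH H (lit 32306) := InH.mul x23858 s3 (by decide +kernel)
  have x29291 : InH H (lit 29291) := InH.mul x63011 s0 (by decide +kernel)
  have x64019 : InH H (lit 64019) := InH.mul x51987 s3 (by decide +kernel)
  have x31662 : InH H (lit 31662) := InH.mul x24042 s1 (by decide +kernel)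
  have x62422 : InH H (lit 62422) := InH.mul x37302 s1 (by decide +kernel)
  have d0 : 4 ∣ Nat.card H := dvd_of_list [33825, 33901, 50211, 50283] (by decide +kernel) (by decide +kernel)
    (by decide +kernel) (by simp only [List.forall_mem_cons]; exact ⟨x33825, x33901, x50211, x50283, List.forall_mem_nil _⟩)
  have d1 : 9 ∣ Nat.card H := dvd_of_list [33825, 36324, 63050, 33213, 62422, 29291, 64019, 32306, 31662] (by decide +kernel) (by decide +kernel)
    (by decide +kernel) (by simp only [List.forall_mem_cons]; exact ⟨x33825, x36324, x63050, x33213, x62422, x29291, x64019, x32306, x31662, List.forall_mem_nil _⟩)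
  exact (by norm_num : Nat.Coprime 4 9).mul_dvd_of_dvd_of_dvd d0 d1

theorem case11 (H : Subgroup G₂) (hy : U v₀ v₁ (1 : ZMod 2) ∈ H) (hz : U v₀ v₃ (0 : ZMod 2) ∈ H)
    (hy' : U v₂ v₁ (1 : ZMod 2) ∈ H) (hz' : U v₂ v₃ (1 : ZMod 2) ∈ H) : 120 ∣ Nat.card H := by
  have s0 : InH H (lit 33901) := ⟨_, hy, by decide +kernel⟩
  have s1 : InH H (lit 50211) := ⟨_, hz, by decide +kernel⟩
  have s2 : InH H (lit 36145) := ⟨_, hy', by decide +kernel⟩
  have s3 : InH H (lit 38689) := ⟨_, hz', by decide +kernel⟩
  have x33825 : InH H (lit 33825) := ⟨1, H.one_mem, by decide +kernel⟩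
  have x33901 : InH H (lit 33901) := InH.mul x33825 s0 (by decide +kernel)
  have x36145 : InH H (lit 36145) := InH.mul x33825 s2 (by decide +kernel)
  have x38689 : InH H (lit 38689) := InH.mul x33825 s3 (by decide +kernel)
  have x36324 : InH H (lit 36324) := InH.mul x33901 s2 (by decide +kernel)
  have x38751 : InH H (lit 38751) := InH.mul x33901 s3 (by decide +kernel)
  have x33213 : InH H (lit 33213) := InH.mul x36145 s0 (by decide +kernel)
  have x40753 : InH H (lit 40753) := InH.mul x36145 s3 (by decide +kernel)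
  have x24429 : InH H (lit 24429) := InH.mul x38689 s0 (by decide +kernel)
  have x40903 : InH H (lit 40903) := InH.mul x36324 s3 (by decide +kernel)
  have x24471 : InH H (lit 24471) := InH.mul x38751 s0 (by decide +kernel)
  have x63763 : InH H (lit 63763) := InH.mul x40753 s1 (by decide +kernel)
  have x31083 : InH H (lit 31083) := InH.mul x24429 s1 (by decide +kernel)
  have x27999 : InH H (lit 27999) := InH.mul x24429 s3 (by decide +kernel)
  have x63877 : InH H (lit 63877) := InH.mul x40903 s1 (by decide +kernel)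
  have x31221 : InH H (lit 31221) := InH.mul x24471 s1 (by decide +kernel)
  have x28036 : InH H (lit 28036) := InH.mul x24471 s3 (by decide +kernel)
  have x30994 : InH H (lit 30994) := InH.mul x63763 s2 (by decide +kernel)
  have x18522 : InH H (lit 18522) := InH.mul x31083 s3 (by decide +kernel)
  have x8599 : InH H (lit 8599) := InH.mul x27999 s0 (by decide +kernel)
  have x31116 : InH H (lit 31116) := InH.mul x63877 s2 (by decide +kernel)
  have x18646 : InH H (lit 18646) := InH.mul x31221 s3 (by decide +kernel)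
  have x62934 : InH H (lit 62934) := InH.mul x30994 s0 (by decide +kernel)
  have x18450 : InH H (lit 18450) := InH.mul x30994 s3 (by decide +kernel)
  have x18590 : InH H (lit 18590) := InH.mul x18522 s0 (by decide +kernel)
  have x62860 : InH H (lit 62860) := InH.mul x31116 s0 (by decide +kernel)
  have x38838 : InH H (lit 38838) := InH.mul x62934 s1 (by decide +kernel)
  have x38856 : InH H (lit 38856) := InH.mul x62860 s1 (by decide +kernel)
  have x33957 : InH H (lit 33957) := InH.mul x38838 s3 (by decide +kernel)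
  have x34025 : InH H (lit 34025) := InH.mul x38856 s3 (by decide +kernel)
  have d0 : 8 ∣ Nat.card H := dvd_of_list [33825, 33901, 18522, 18646, 18590, 18450, 34025, 33957] (by decide +kernel) (by decide +kernel)
    (by decide +kernel) (by simp only [List.forall_mem_cons]; exact ⟨x33825, x33901, x18522, x18646, x18590, x18450, x34025, x33957, List.forall_mem_nil _⟩)
  have d1 : 3 ∣ Nat.card H := dvd_of_list [33825, 36324, 33213] (by decide +kernel) (by decide +kernel)
    (by decide +kernel) (by simp only [List.forall_mem_cons]; exact ⟨x33825, x36324, x33213, List.forall_mem_nil _⟩)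
  have d2 : 5 ∣ Nat.card H := dvd_of_list [33825, 38751, 28036, 8599, 24429] (by decide +kernel) (by decide +kernel)
    (by decide +kernel) (by simp only [List.forall_mem_cons]; exact ⟨x33825, x38751, x28036, x8599, x24429, List.forall_mem_nil _⟩)
  exact (by norm_num : Nat.Coprime 24 5).mul_dvd_of_dvd_of_dvd
    ((by norm_num : Nat.Coprime 8 3).mul_dvd_of_dvd_of_dvd d0 d1) d2

theorem case12 (H : Subgroup G₂) (hy : U v₀ v₁ (1 : ZMod 2) ∈ H) (hz : U v₀ v₃ (1 : ZMod 2) ∈ H)
    (hy' : U v₂ v₁ (0 : ZMod 2) ∈ H) (hz' : U v₂ v₃ (0 : ZMod 2) ∈ H) : 120 ∣ Nat.card H := by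
  have s0 : InH H (lit 33901) := ⟨_, hy, by decide +kernel⟩
  have s1 : InH H (lit 50215) := ⟨_, hz, by decide +kernel⟩
  have s2 : InH H (lit 35889) := ⟨_, hy', by decide +kernel⟩
  have s3 : InH H (lit 38433) := ⟨_, hz', by decide +kernel⟩
  have x33825 : InH H (lit 33825) := ⟨1, H.one_mem, by decide +kernel⟩
  have x33901 : InH H (lit 33901) := InH.mul x33825 s0 (by decide +kernel)
  have x35889 : InH H (lit 35889) := InH.mul x33825 s2 (by decide +kernel)
  have x50287 : InH H (lit 50287) := InH.mul x33901 s1 (by decide +kernel)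
  have x36085 : InH H (lit 36085) := InH.mul x33901 s2 (by decide +kernel)
  have x36029 : InH H (lit 36029) := InH.mul x35889 s0 (by decide +kernel)
  have x40753 : InH H (lit 40753) := InH.mul x35889 s3 (by decide +kernel)
  have x19702 : InH H (lit 19702) := InH.mul x50287 s2 (by decide +kernel)
  have x35961 : InH H (lit 35961) := InH.mul x36085 s0 (by decide +kernel)
  have x40903 : InH H (lit 40903) := InH.mul x36085 s3 (by decide +kernel)
  have x33957 : InH H (lit 33957) := InH.mul x36029 s2 (by decide +kernel)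
  have x22461 : InH H (lit 22461) := InH.mul x40753 s0 (by decide +kernel)
  have x28612 : InH H (lit 28612) := InH.mul x19702 s3 (by decide +kernel)
  have x34025 : InH H (lit 34025) := InH.mul x35961 s2 (by decide +kernel)
  have x22479 : InH H (lit 22479) := InH.mul x40903 s0 (by decide +kernel)
  have x12703 : InH H (lit 12703) := InH.mul x22461 s1 (by decide +kernel)
  have x56997 : InH H (lit 56997) := InH.mul x22461 s2 (by decide +kernel)
  have x56902 : InH H (lit 56902) := InH.mul x22479 s2 (by decide +kernel)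
  have x60855 : InH H (lit 60855) := InH.mul x56997 s3 (by decide +kernel)
  have x60772 : InH H (lit 60772) := InH.mul x56902 s3 (by decide +kernel)
  have x41279 : InH H (lit 41279) := InH.mul x60855 s0 (by decide +kernel)
  have d0 : 8 ∣ Nat.card H := dvd_of_list [33825, 33901, 35889, 36085, 36029, 35961, 33957, 34025] (by decide +kernel) (by decide +kernel)
    (by decide +kernel) (by simp only [List.forall_mem_cons]; exact ⟨x33825, x33901, x35889, x36085, x36029, x35961, x33957, x34025, List.forall_mem_nil _⟩)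
  have d1 : 3 ∣ Nat.card H := dvd_of_list [33825, 28612, 12703] (by decide +kernel) (by decide +kernel)
    (by decide +kernel) (by simp only [List.forall_mem_cons]; exact ⟨x33825, x28612, x12703, List.forall_mem_nil _⟩)
  have d2 : 5 ∣ Nat.card H := dvd_of_list [33825, 40903, 60772, 41279, 22461] (by decide +kernel) (by decide +kernel)
    (by decide +kernel) (by simp only [List.forall_mem_cons]; exact ⟨x33825, x40903, x60772, x41279, x22461, List.forall_mem_nil _⟩)
  exact (by norm_num : Nat.Coprime 24 5).mul_dvd_of_dvd_of_dvd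
    ((by norm_num : Nat.Coprime 8 3).mul_dvd_of_dvd_of_dvd d0 d1) d2

theorem case13 (H : Subgroup G₂) (hy : U v₀ v₁ (1 : ZMod 2) ∈ H) (hz : U v₀ v₃ (1 : ZMod 2) ∈ H)
    (hy' : U v₂ v₁ (0 : ZMod 2) ∈ H) (hz' : U v₂ v₃ (1 : ZMod 2) ∈ H) : 120 ∣ Nat.card H := by
  have s0 : InH H (lit 33901) := ⟨_, hy, by decide +kernel⟩
  have s1 : InH H (lit 50215) := ⟨_, hz, by decide +kernel⟩
  have s2 : InH H (lit 35889) := ⟨_, hy', by decide +kernel⟩
  have s3 : InH H (lit 38689) := ⟨_, hz', by decide +kernel⟩
  have x33825 : InH H (lit 33825) := ⟨1, H.one_mem, by decide +kernel⟩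
  have x33901 : InH H (lit 33901) := InH.mul x33825 s0 (by decide +kernel)
  have x50215 : InH H (lit 50215) := InH.mul x33825 s1 (by decide +kernel)
  have x35889 : InH H (lit 35889) := InH.mul x33825 s2 (by decide +kernel)
  have x38689 : InH H (lit 38689) := InH.mul x33825 s3 (by decide +kernel)
  have x36085 : InH H (lit 36085) := InH.mul x33901 s2 (by decide +kernel)
  have x38751 : InH H (lit 38751) := InH.mul x33901 s3 (by decide +kernel)
  have x59172 : InH H (lit 59172) := InH.mul x50215 s3 (by decide +kernel)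
  have x36029 : InH H (lit 36029) := InH.mul x35889 s0 (by decide +kernel)
  have x24429 : InH H (lit 24429) := InH.mul x38689 s0 (by decide +kernel)
  have x45351 : InH H (lit 45351) := InH.mul x38689 s1 (by decide +kernel)
  have x35961 : InH H (lit 35961) := InH.mul x36085 s0 (by decide +kernel)
  have x24471 : InH H (lit 24471) := InH.mul x38751 s0 (by decide +kernel)
  have x33957 : InH H (lit 33957) := InH.mul x36029 s2 (by decide +kernel)
  have x27999 : InH H (lit 27999) := InH.mul x24429 s3 (by decide +kernel)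
  have x34025 : InH H (lit 34025) := InH.mul x35961 s2 (by decide +kernel)
  have x28036 : InH H (lit 28036) := InH.mul x24471 s3 (by decide +kernel)
  have x8599 : InH H (lit 8599) := InH.mul x27999 s0 (by decide +kernel)
  have d0 : 8 ∣ Nat.card H := dvd_of_list [33825, 33901, 35889, 36085, 36029, 35961, 33957, 34025] (by decide +kernel) (by decide +kernel)
    (by decide +kernel) (by simp only [List.forall_mem_cons]; exact ⟨x33825, x33901, x35889, x36085, x36029, x35961, x33957, x34025, List.forall_mem_nil _⟩)
  have d1 : 3 ∣ Nat.card H := dvd_of_list [33825, 59172, 45351] (by decide +kernel) (by decide +kernel)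
    (by decide +kernel) (by simp only [List.forall_mem_cons]; exact ⟨x33825, x59172, x45351, List.forall_mem_nil _⟩)
  have d2 : 5 ∣ Nat.card H := dvd_of_list [33825, 38751, 28036, 8599, 24429] (by decide +kernel) (by decide +kernel)
    (by decide +kernel) (by simp only [List.forall_mem_cons]; exact ⟨x33825, x38751, x28036, x8599, x24429, List.forall_mem_nil _⟩)
  exact (by norm_num : Nat.Coprime 24 5).mul_dvd_of_dvd_of_dvd
    ((by norm_num : Nat.Coprime 8 3).mul_dvd_of_dvd_of_dvd d0 d1) d2

theorem case14 (H : Subgroup G₂) (hy : U v₀ v₁ (1 : ZMod 2) ∈ H) (hz : U v₀ v₃ (1 : ZMod 2) ∈ H)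
    (hy' : U v₂ v₁ (1 : ZMod 2) ∈ H) (hz' : U v₂ v₃ (0 : ZMod 2) ∈ H) : 120 ∣ Nat.card H := by
  have s0 : InH H (lit 33901) := ⟨_, hy, by decide +kernel⟩
  have s1 : InH H (lit 50215) := ⟨_, hz, by decide +kernel⟩
  have s2 : InH H (lit 36145) := ⟨_, hy', by decide +kernel⟩
  have s3 : InH H (lit 38433) := ⟨_, hz', by decide +kernel⟩
  have x33825 : InH H (lit 33825) := ⟨1, H.one_mem, by decide +kernel⟩
  have x33901 : InH H (lit 33901) := InH.mul x33825 s0 (by decide +kernel)
  have x50215 : InH H (lit 50215) := InH.mul x33825 s1 (by decide +kernel)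
  have x36145 : InH H (lit 36145) := InH.mul x33825 s2 (by decide +kernel)
  have x38433 : InH H (lit 38433) := InH.mul x33825 s3 (by decide +kernel)
  have x50287 : InH H (lit 50287) := InH.mul x33901 s1 (by decide +kernel)
  have x36324 : InH H (lit 36324) := InH.mul x33901 s2 (by decide +kernel)
  have x38478 : InH H (lit 38478) := InH.mul x33901 s3 (by decide +kernel)
  have x23871 : InH H (lit 23871) := InH.mul x50215 s2 (by decide +kernel)
  have x63013 : InH H (lit 63013) := InH.mul x50215 s3 (by decide +kernel)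
  have x33213 : InH H (lit 33213) := InH.mul x36145 s0 (by decide +kernel)
  have x53079 : InH H (lit 53079) := InH.mul x36145 s1 (by decide +kernel)
  have x46631 : InH H (lit 46631) := InH.mul x38433 s1 (by decide +kernel)
  have x46666 : InH H (lit 46666) := InH.mul x38478 s1 (by decide +kernel)
  have x16221 : InH H (lit 16221) := InH.mul x23871 s1 (by decide +kernel)
  have x54819 : InH H (lit 54819) := InH.mul x63013 s1 (by decide +kernel)
  have x22479 : InH H (lit 22479) := InH.mul x53079 s2 (by decide +kernel)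
  have x42021 : InH H (lit 42021) := InH.mul x46631 s3 (by decide +kernel)
  have x42091 : InH H (lit 42091) := InH.mul x46666 s3 (by decide +kernel)
  have x10180 : InH H (lit 10180) := InH.mul x16221 s2 (by decide +kernel)
  have x58403 : InH H (lit 58403) := InH.mul x54819 s3 (by decide +kernel)
  have x12685 : InH H (lit 12685) := InH.mul x22479 s1 (by decide +kernel)
  have x58473 : InH H (lit 58473) := InH.mul x42021 s0 (by decide +kernel)
  have d0 : 8 ∣ Nat.card H := dvd_of_list [33825, 33901, 42021, 42091, 58473, 58403, 50287, 50215] (by decide +kernel) (by decide +kernel)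
    (by decide +kernel) (by simp only [List.forall_mem_cons]; exact ⟨x33825, x33901, x42021, x42091, x58473, x58403, x50287, x50215, List.forall_mem_nil _⟩)
  have d1 : 3 ∣ Nat.card H := dvd_of_list [33825, 36324, 33213] (by decide +kernel) (by decide +kernel)
    (by decide +kernel) (by simp only [List.forall_mem_cons]; exact ⟨x33825, x36324, x33213, List.forall_mem_nil _⟩)
  have d2 : 5 ∣ Nat.card H := dvd_of_list [33825, 23871, 10180, 12685, 53079] (by decide +kernel) (by decide +kernel)
    (by decide +kernel) (by simp only [List.forall_mem_cons]; exact ⟨x33825, x23871, x10180, x12685, x53079, List.forall_mem_nil _⟩)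
  exact (by norm_num : Nat.Coprime 24 5).mul_dvd_of_dvd_of_dvd
    ((by norm_num : Nat.Coprime 8 3).mul_dvd_of_dvd_of_dvd d0 d1) d2

theorem case15 (H : Subgroup G₂) (hy : U v₀ v₁ (1 : ZMod 2) ∈ H) (hz : U v₀ v₃ (1 : ZMod 2) ∈ H)
    (hy' : U v₂ v₁ (1 : ZMod 2) ∈ H) (hz' : U v₂ v₃ (1 : ZMod 2) ∈ H) : 60 ∣ Nat.card H := by
  have s0 : InH H (lit 33901) := ⟨_, hy, by decide +kernel⟩
  have s1 : InH H (lit 50215) := ⟨_, hz, by decide +kernel⟩
  have s2 : InH H (lit 36145) := ⟨_, hy', by decide +kernel⟩
  have s3 : InH H (lit 38689) := ⟨_, hz', by decide +kernel⟩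
  have x33825 : InH H (lit 33825) := ⟨1, H.one_mem, by decide +kernel⟩
  have x33901 : InH H (lit 33901) := InH.mul x33825 s0 (by decide +kernel)
  have x50215 : InH H (lit 50215) := InH.mul x33825 s1 (by decide +kernel)
  have x36145 : InH H (lit 36145) := InH.mul x33825 s2 (by decide +kernel)
  have x38689 : InH H (lit 38689) := InH.mul x33825 s3 (by decide +kernel)
  have x50287 : InH H (lit 50287) := InH.mul x33901 s1 (by decide +kernel)
  have x36324 : InH H (lit 36324) := InH.mul x33901 s2 (by decide +kernel)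
  have x38751 : InH H (lit 38751) := InH.mul x33901 s3 (by decide +kernel)
  have x33213 : InH H (lit 33213) := InH.mul x36145 s0 (by decide +kernel)
  have x24429 : InH H (lit 24429) := InH.mul x38689 s0 (by decide +kernel)
  have x24471 : InH H (lit 24471) := InH.mul x38751 s0 (by decide +kernel)
  have x27999 : InH H (lit 27999) := InH.mul x24429 s3 (by decide +kernel)
  have x28036 : InH H (lit 28036) := InH.mul x24471 s3 (by decide +kernel)
  have x8599 : InH H (lit 8599) := InH.mul x27999 s0 (by decide +kernel)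
  have d0 : 4 ∣ Nat.card H := dvd_of_list [33825, 33901, 50215, 50287] (by decide +kernel) (by decide +kernel)
    (by decide +kernel) (by simp only [List.forall_mem_cons]; exact ⟨x33825, x33901, x50215, x50287, List.forall_mem_nil _⟩)
  have d1 : 3 ∣ Nat.card H := dvd_of_list [33825, 36324, 33213] (by decide +kernel) (by decide +kernel)
    (by decide +kernel) (by simp only [List.forall_mem_cons]; exact ⟨x33825, x36324, x33213, List.forall_mem_nil _⟩)
  have d2 : 5 ∣ Nat.card H := dvd_of_list [33825, 38751, 28036, 8599, 24429] (by decide +kernel) (by decide +kernel)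
    (by decide +kernel) (by simp only [List.forall_mem_cons]; exact ⟨x33825, x38751, x28036, x8599, x24429, List.forall_mem_nil _⟩)
  exact (by norm_num : Nat.Coprime 12 5).mul_dvd_of_dvd_of_dvd
    ((by norm_num : Nat.Coprime 4 3).mul_dvd_of_dvd_of_dvd d0 d1) d2

theorem cert (H : Subgroup G₂) (fy fz gy gz : ZMod 2) (hy : U v₀ v₁ fy ∈ H) (hz : U v₀ v₃ fz ∈ H)
    (hy' : U v₂ v₁ gy ∈ H) (hz' : U v₂ v₃ gz ∈ H) :
    120 ∣ Nat.card H ∨ ((fy = gy ∧ fz = gz) ∧ (60 ∣ Nat.card H ∨ (36 ∣ Nat.card H ∧ (fy = 0 ∨ fz = 0)))) := by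
  fin_cases fy <;> fin_cases fz <;> fin_cases gy <;> fin_cases gz
  · exact Or.inr ⟨⟨rfl, rfl⟩, Or.inr ⟨case0 H hy hz hy' hz', Or.inl rfl⟩⟩
  · exact Or.inl (case1 H hy hz hy' hz')
  · exact Or.inl (case2 H hy hz hy' hz')
  · exact Or.inl (case3 H hy hz hy' hz')
  · exact Or.inl (case4 H hy hz hy' hz')
  · exact Or.inr ⟨⟨rfl, rfl⟩, Or.inr ⟨case5 H hy hz hy' hz', Or.inl rfl⟩⟩
  · exact Or.inl (case6 H hy hz hy' hz')
  · exact Or.inl (case7 H hy hz hy' hz')
  · exact Or.inl (case8 H hy hz hy' hz')
  · exact Or.inl (case9 H hy hz hy' hz')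
  · exact Or.inr ⟨⟨rfl, rfl⟩, Or.inr ⟨case10 H hy hz hy' hz', Or.inr rfl⟩⟩
  · exact Or.inl (case11 H hy hz hy' hz')
  · exact Or.inl (case12 H hy hz hy' hz')
  · exact Or.inl (case13 H hy hz hy' hz')
  · exact Or.inl (case14 H hy hz hy' hz')
  · exact Or.inr ⟨⟨rfl, rfl⟩, Or.inl (case15 H hy hz hy' hz')⟩

end CfsgLib.Classical.SympGraph.Data
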