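import Cfsg.Agent.Lib.Classical.SympGraph.Basic
import Cfsg.Agent.Lib.Classical.SympOrder
import Cfsg.Agent.Lib.SmallDegree.SixIndexSix

set_option autoImplicit false

/-!
The symplectic group of dimension four over two elements is the symmetric group of degree six.
-/

namespace CfsgLib.Classical.SympGraph

open Matrix Cfsg SympTrans

variable {F : Type*} [Field F] [CharP F 2]

local notation "V" => (Fin 2 ⊕ Fin 2 → F)
local notation "G" => Matrix.symplecticGroup (Fin 2) F
local notation "ω" => sympForm 2 F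

/-- Coordinates of the class of an even vector. -/
def down : (Fin 6 → F) →ₗ[F] V where
  toFun x := Sum.elim ![x 1 + x 2, x 4 + x 5] ![x 0 + x 1, x 3 + x 4]
  map_add' x y := by
    ext i; rcases i with i | i <;> fin_cases i <;> simp <;> ring
  map_smul' c x := by
    ext i; rcases i with i | i <;> fin_cases i <;> simp <;> ring

/-- An even representative. -/
def up : V →ₗ[F] (Fin 6 → F) where
  toFun v := ![v (.inl 0), v (.inl 0) + v (.inr 0), v (.inr 0), v (.inl 1),
    v (.inl 1) + v (.inr 1), v (.inr 1)]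
  map_add' u v := by ext i; fin_cases i <;> simp <;> ring
  map_smul' c v := by ext i; fin_cases i <;> simp <;> ring

theorem three_one : (3 : F) = 1 := by linear_combination two_zero (F := F)

theorem four_zero : (4 : F) = 0 := by linear_combination 2 * two_zero (F := F)

theorem sum_up (v : V) : ∑ i, up v i = 0 := by
  rw [Fin.sum_univ_six]; simp [up]; ring_nf; simp [two_zero, three_one, four_zero]

theorem last_eq {x : Fin 6 → F} (h : ∑ i, x i = 0) : x 5 = x 0 + x 1 + x 2 + x 3 + x 4 := by
  rw [Fin.sum_univ_six] at h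
  exact (CharTwo.add_eq_zero.1 h).symm

theorem down_up (v : V) : down (up v) = v := by
  ext i; rcases i with i | i <;> fin_cases i <;> simp [down, up] <;> ring_nf <;>
    simp [two_zero, three_one, four_zero]

theorem up_down {x : Fin 6 → F} (h : ∑ i, x i = 0) (i : Fin 6) :
    up (down x) i = x i + (x 0 + x 1 + x 2) := by
  have h5 := last_eq h
  fin_cases i <;> simp [down, up, h5] <;> ring_nf <;> simp [two_zero, three_one, four_zero]

/-- The matrix of a permutation. -/
def act (σ : Equiv.Perm (Fin 6)) : V →ₗ[F] V :=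
  down ∘ₗ LinearMap.funLeft F F ⇑σ⁻¹ ∘ₗ up

theorem act_apply (σ : Equiv.Perm (Fin 6)) (v : V) :
    act σ v = down (fun i => up v (σ⁻¹ i)) := rfl

theorem sum_perm {x : Fin 6 → F} (σ : Equiv.Perm (Fin 6)) : ∑ i, x (σ i) = ∑ i, x i :=
  Equiv.sum_comp σ x

theorem act_mul (σ τ : Equiv.Perm (Fin 6)) (v : V) : act (σ * τ) v = act σ (act τ v) := by
  have h : ∀ i, up (act τ v) i = up v (τ⁻¹ i) + (up v (τ⁻¹ 0) + up v (τ⁻¹ 1) + up v (τ⁻¹ 2)) :=
    fun i => up_down (x := fun i => up v (τ⁻¹ i)) ((sum_perm _).trans (sum_up v)) i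
  rw [act_apply σ, act_apply (σ * τ)]
  simp only [h, _root_.mul_inv_rev, Equiv.Perm.mul_apply]
  ext j
  rcases j with j | j <;> fin_cases j <;> simp [down] <;> ring_nf <;> simp [two_zero, three_one, four_zero]

theorem act_one (v : V) : act 1 v = v := by
  rw [act_apply]; simpa using down_up v

theorem f_down {x y : Fin 6 → F} (hx : ∑ i, x i = 0) (hy : ∑ i, y i = 0) :
    ω (down x) (down y) = ∑ i, x i * y i := by
  rw [f_apply, Fin.sum_univ_six, Fin.sum_univ_two]
  simp only [down, LinearMap.coe_mk, AddHom.coe_mk, Sum.elim_inl, Sum.elim_inr,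
    Matrix.cons_val_zero, Matrix.cons_val_one, last_eq hx, last_eq hy, sub_eq_add_neg,
    CharTwo.neg_eq]
  ring_nf
  simp [two_zero, three_one, four_zero]

theorem f_act (σ : Equiv.Perm (Fin 6)) (u v : V) : ω (act σ u) (act σ v) = ω u v := by
  rw [act_apply, act_apply, f_down ((sum_perm _).trans (sum_up u)) ((sum_perm _).trans (sum_up v))]
  show ∑ i, (fun j => up u j * up v j) (σ⁻¹ i) = _
  rw [sum_perm (x := fun j => up u j * up v j) σ⁻¹, ← f_down (sum_up u) (sum_up v), down_up, down_up]

/-- Permutations of six points as symplectic matrices. -/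
def sixHom : Equiv.Perm (Fin 6) →* G where
  toFun σ := ⟨LinearMap.toMatrix' (act σ), mem_iff_f.2 fun u v => by
    rw [LinearMap.toMatrix'_mulVec, LinearMap.toMatrix'_mulVec, f_act]⟩
  map_one' := ext_app fun v => by
    rw [app_one]; show LinearMap.toMatrix' (act 1) *ᵥ v = v
    rw [LinearMap.toMatrix'_mulVec, act_one]
  map_mul' σ τ := ext_app fun v => by
    rw [app_mul]
    show LinearMap.toMatrix' (act (σ * τ)) *ᵥ v =
      LinearMap.toMatrix' (act σ) *ᵥ (LinearMap.toMatrix' (act τ) *ᵥ v)
    rw [LinearMap.toMatrix'_mulVec, LinearMap.toMatrix'_mulVec, LinearMap.toMatrix'_mulVec, act_mul]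

theorem sixHom_bijective [Finite F] (hq : Nat.card F = 2) :
    Function.Bijective (sixHom (F := F)) := by
  have hinj : Function.Injective (sixHom (F := F)) := by
    rw [← MonoidHom.ker_eq_bot_iff]
    refine CfsgLib.SixIndexSix.normal_eq_bot (by simp) _ fun hle => ?_
    have h3 : (Equiv.swap (0 : Fin 6) 1 * Equiv.swap 1 2) ∈ alternatingGroup (Fin 6) := by
      rw [Equiv.Perm.mem_alternatingGroup]; decide
    have h := congrArg (fun g => app g (Pi.single (.inl 0) (1 : F) : V))
      (MonoidHom.mem_ker.1 (hle h3))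
    simp only [app_one] at h
    have h' := congrFun h (.inl 0)
    change (LinearMap.toMatrix' (act _) *ᵥ (Pi.single (.inl 0) (1 : F) : V)) _ = _ at h'
    rw [LinearMap.toMatrix'_mulVec, act_apply] at h'
    simp [down, up, Equiv.swap_apply_def, two_zero, CharTwo.add_self_eq_zero] at h'
  refine (Nat.bijective_iff_injective_and_card _).2 ⟨hinj, ?_⟩
  rw [card_symplectic, hq, Nat.card_perm, Nat.card_eq_fintype_card, Fintype.card_fin]
  decide

/-- A large subgroup is everything, alternating of degree six or symmetric of degree five. -/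
theorem of_card_ge [Finite F] (hq : Nat.card F = 2) (L : Subgroup G) (h : 120 ≤ Nat.card L) :
    L = ⊤ ∨ Nonempty (L ≃* alternatingGroup (Fin 6)) ∨ Nonempty (L ≃* Equiv.Perm (Fin 5)) := by
  classical
  obtain ⟨e, -⟩ : ∃ e : Equiv.Perm (Fin 6) ≃* G, True :=
    ⟨MulEquiv.ofBijective sixHom (sixHom_bijective hq), trivial⟩
  obtain ⟨M, hM⟩ : ∃ M, M = L.map e.symm.toMonoidHom := ⟨_, rfl⟩
  have iso : L ≃* M := (e.symm.subgroupMap L).trans (MulEquiv.subgroupCongr hM.symm)
  have hc : Nat.card M = Nat.card L := (Nat.card_congr iso.toEquiv).symm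
  have h6 : Fintype.card (Fin 6) = 6 := Fintype.card_fin 6
  have hmul := M.card_mul_index
  rw [CfsgLib.SixIndexSix.card_perm h6] at hmul
  have hi : M.index ≤ 6 := by
    by_contra hc'
    have : 7 * 120 ≤ M.index * Nat.card M := Nat.mul_le_mul (by omega) (by omega)
    nlinarith
  by_cases h1 : M.index = 1
  · left
    refine Subgroup.eq_top_of_card_eq L ?_
    rw [← hc, ← Nat.card_congr e.toEquiv, Subgroup.card_eq_iff_eq_top]
    exact Subgroup.index_eq_one.1 h1
  by_cases h2 : M.index = 2
  · right; left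
    exact ⟨iso.trans (MulEquiv.subgroupCongr (Equiv.Perm.eq_alternatingGroup_of_index_eq_two h2))⟩
  by_cases h6' : M.index = 6
  · right; right
    exact (CfsgLib.SixIndexSix.equiv_five h6 h6').map iso.trans
  exfalso
  have hpos : M.index ≠ 0 := Subgroup.index_ne_zero_of_finite
  haveI : Fintype (Equiv.Perm (Fin 6) ⧸ M) := Fintype.ofFinite _
  have hker : (MulAction.toPermHom (Equiv.Perm (Fin 6)) (Equiv.Perm (Fin 6) ⧸ M)).ker = ⊥ := by
    rw [← Subgroup.normalCore_eq_ker]
    refine CfsgLib.SixIndexSix.normal_eq_bot (by omega) _ fun hle => ?_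
    have hh := Subgroup.index_dvd_of_le (hle.trans M.normalCore_le)
    rw [show (alternatingGroup (Fin 6)).index = 2 from alternatingGroup.index_eq_two] at hh
    have := Nat.le_of_dvd (by norm_num) hh
    omega
  have := Nat.card_le_card_of_injective _ ((MonoidHom.ker_eq_bot_iff _).1 hker)
  rw [Nat.card_perm, Nat.card_perm, ← Subgroup.index_eq_card, Nat.card_eq_fintype_card, h6] at this
  have := Nat.factorial_le (show M.index ≤ 5 by omega)
  norm_num [Nat.factorial] at *
  omega

end CfsgLib.Classical.SympGraph
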