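import Cfsg.Agent.Lib.Classical.SympGraph.Orth
import Cfsg.Agent.Lib.Classical.SympGraph.Six
import Cfsg.Agent.Lib.Classical.SympGraph.Data

set_option autoImplicit false

/-!
Irreducible subgroups containing a complement to the transvections in the radical of a point
stabiliser of a symplectic group in characteristic two.
-/

namespace CfsgLib.Classical.SympGraph

open Matrix Cfsg SympTrans

variable {F : Type*} [Field F] [Finite F] [CharP F 2] {m : ℕ}

local notation "V" => (Fin m ⊕ Fin m → F)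
local notation "G" => Matrix.symplecticGroup (Fin m) F
local notation "ω" => sympForm m F

variable {L : Subgroup (Matrix.symplecticGroup (Fin m) F)} {a e : Fin m ⊕ Fin m → F}
  {f g : (Fin m ⊕ Fin m → F) → F}

theorem Pair.form (hm : 2 ≤ m) (hT : TFree L a) (P : Pair L a e f g)
    (hq : ∀ b, ω a b = 0 → ω e b = 0 → f b = g b ∧ ∀ t : F, f (t • b) = t * t * f b) :
    Form a e f ∧ Gens a e f ≤ L :=
  ⟨⟨P.ae, hm, fun b h h' => (hq b h h').2, fun _ _ h1 h2 h3 h4 => P.f_add hT h1 h2 h3 h4⟩,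
    gens_le P.hf fun b h1 h2 => by rw [(hq b h1 h2).1]; exact P.hg b h1 h2⟩

theorem Form.shift (D : Form a e f) {b : V} (hab : ω a b = 0) :
    U a b (qv a e f b) = U a (pr a e b) (f (pr a e b)) := by
  have hb : b = pr a e b + ω b e • a := by
    conv_lhs => rw [decomp (a := a) (e := e) b, w_comm a b, hab, zero_smul, add_zero, add_comm]
  have hq : qv a e f b = f (pr a e b) := by rw [qv, w_comm a b, hab, mul_zero, zero_add]
  rw [hq]
  exact (congrArg (fun x => U a x (f (pr a e b))) hb).trans (U_shift (pr_left D.ae b) _ _)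

/-- The graph at a singular vector is that of the form. -/
theorem Form.uniq (D : Form a e f) (hT : TFree L a) (he : Orb L a e) (hKL : Gens a e f ≤ L)
    {P : V} (hP : qv a e f P = 0) (hP0 : P ≠ 0) {b : V} (hb : ω P b = 0) {l : F}
    (h : U P b l ∈ L) : l = qv a e f b := by
  obtain ⟨k, hk, hkP⟩ := D.move_singular hP hP0
  have h1 := L.mul_mem (L.mul_mem (hKL hk) h) (L.inv_mem (hKL hk))
  rw [conj_U, hkP] at h1
  have hek : ω e (app k b) = 0 := by rw [← hkP, f_app, hb]
  have h2 : U e (app k b) (qv e a f (app k b)) ∈ L := by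
    rw [D.symm.shift hek]
    exact hKL (gens_symm (a := a) ▸ gens_left (pr_left D.symm.ae _) (pr_right D.symm.ae _))
  rw [tfree_unique (tfree_orb hT he) hek h1 h2, qv_symm, D.gens_le_iso hk b]

theorem Form.singular_of_orb (D : Form a e f) (hT : TFree L a) (he : Orb L a e)
    (hKL : Gens a e f ≤ L) (hZ : Zero L a) {v : V} (hv : Orb L a v) : qv a e f v = 0 := by
  by_contra hne
  -- a singular vector orthogonal to `v`
  obtain ⟨R, hR0, hRq, hRv⟩ : ∃ R, R ≠ 0 ∧ qv a e f R = 0 ∧ ω R v = 0 := by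
    have ha0 : a ≠ 0 := fun h => one_ne_zero (α := F) (by rw [← D.ae, h, f_zero_left])
    have he0 : e ≠ 0 := fun h => one_ne_zero (α := F) (by rw [← D.ae, h, f_zero_right])
    by_cases hβ : ω v a = 0
    · exact ⟨a, ha0, D.q_left, by rw [w_comm, hβ]⟩
    by_cases hα : ω v e = 0
    · exact ⟨e, he0, D.q_right, by rw [w_comm, hα]⟩
    obtain ⟨w, hw⟩ : ∃ w, w = pr a e v := ⟨_, rfl⟩
    have haw : ω a w = 0 := hw ▸ pr_left D.ae v
    have hew : ω e w = 0 := hw ▸ pr_right D.ae v
    obtain ⟨b', hab', heb', hb'⟩ := D.surj ((ω v e + f w / ω v a) / ω v a)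
    obtain ⟨b, hb⟩ : ∃ b, b = b' + (ω v a)⁻¹ • w := ⟨_, rfl⟩
    have h1 : ω a ((ω v a)⁻¹ • w) = 0 := by rw [f_smul_right, haw, mul_zero]
    have h2 : ω e ((ω v a)⁻¹ • w) = 0 := by rw [f_smul_right, hew, mul_zero]
    have hab : ω a b = 0 := by rw [hb, f_add_right, hab', h1, add_zero]
    have heb : ω e b = 0 := by rw [hb, f_add_right, heb', h2, add_zero]
    refine ⟨app (U a b (f b)) e, app_ne_zero _ he0, by rw [D.U_mem_iso hab heb e, D.q_right], ?_⟩
    have hfb : f b = f b' + (ω v a)⁻¹ * (ω v a)⁻¹ * f w + (ω v a)⁻¹ * ω b' w := by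
      rw [hb, D.add _ _ hab' heb' h1 h2, D.smul w haw hew, f_smul_right]
    have hvb : ω v b = ω b' w := by
      rw [hb, f_add_right, f_smul_right, w_comm w v, hw, ← f_pr (pr_left D.ae v) (pr_right D.ae v),
        f_self, mul_zero, add_zero, f_pr hab' heb', w_comm v b']
    rw [app_U hab, w_comm a e, D.ae, heb, f_add_left, f_add_left, f_add_left, f_smul_left,
      f_smul_left, f_smul_left, w_comm v e, w_comm v b, w_comm v a, hvb, hfb, hb']
    field_simp
    linear_combination (ω v a * ω v e + f w + ω v a * ω b' w) * two_zero (F := F)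
  obtain ⟨k, hk, hkR⟩ := D.move_singular hRq hR0
  have hR : Orb L a R := by
    have := orb_app he (L.inv_mem (hKL hk))
    rwa [← hkR, app_inv] at this
  have h := D.uniq hT he hKL hRq hR0 hRv (l := 0) (by simpa using hZ R v hR hv hRv 1)
  exact hne h.symm

theorem Form.le_iso (D : Form a e f) (hT : TFree L a) (he : Orb L a e) (hKL : Gens a e f ≤ L)
    (hs : ∀ v, Orb L a v → qv a e f v = 0) : L ≤ Iso (qv a e f) := by
  intro l hl
  have ha0 : a ≠ 0 := fun h => one_ne_zero (α := F) (by rw [← D.ae, h, f_zero_left])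
  have hla : qv a e f (app l a) = 0 := hs _ (orb_app orb_self hl)
  have hle : qv a e f (app l e) = 0 := hs _ (orb_app he hl)
  have key : ∀ b, ω a b = 0 → qv a e f (app l b) = qv a e f b := by
    intro b hb
    have h1 : U a b (qv a e f b) ∈ L := by
      rw [D.shift hb]; exact hKL (gens_left (pr_left D.ae b) (pr_right D.ae b))
    have h2 := L.mul_mem (L.mul_mem hl h1) (L.inv_mem hl)
    rw [conj_U] at h2
    exact (D.uniq hT he hKL hla (app_ne_zero l ha0) (by rw [f_app, hb]) h2).symm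
  intro v
  obtain ⟨β, hβ⟩ : ∃ β, β = ω v a := ⟨_, rfl⟩
  obtain ⟨u, hu⟩ : ∃ u, u = v + β • e := ⟨_, rfl⟩
  have hau : ω a u = 0 := by
    rw [hu, f_add_right, f_smul_right, D.ae, mul_one, w_comm v a, hβ, CharTwo.add_self_eq_zero]
  have hv : v = β • e + u := by rw [hu, add_comm, add_assoc, vadd_self, add_zero]
  rw [hv, app_add, app_smul, D.q_add, D.q_add, D.q_smul, D.q_smul, hle, D.q_right, key u hau,
    f_smul_left, f_smul_left, f_app]

end CfsgLib.Classical.SympGraph

namespace CfsgLib.Classical.SympGraph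

open Matrix Cfsg SympTrans

section two

variable {F : Type*} [Field F] [Finite F] [CharP F 2]

local notation "V" => (Fin 2 ⊕ Fin 2 → F)
local notation "G" => Matrix.symplecticGroup (Fin 2) F
local notation "ω" => sympForm 2 F
local notation "G₂" => Matrix.symplecticGroup (Fin 2) (ZMod 2)

/-- The symplectic group over the prime field inside that over `F`. -/
noncomputable def ofPrime : G₂ →* G where
  toFun A := ⟨(A : Matrix (Fin 2 ⊕ Fin 2) (Fin 2 ⊕ Fin 2) (ZMod 2)).map (ZMod.castHom (dvd_refl 2) F), by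
    have h := SymplecticGroup.mem_iff.1 A.2
    rw [SymplecticGroup.mem_iff]
    have h' := congrArg (fun M : Matrix _ _ (ZMod 2) => M.map (ZMod.castHom (dvd_refl 2) F)) h
    have hJ : (J (Fin 2) (ZMod 2)).map (ZMod.castHom (dvd_refl 2) F) = J (Fin 2) F := by
      simp only [J, fromBlocks_map, Matrix.map_zero _ (map_zero _), Matrix.map_one _ (map_zero _) (map_one _)]
      congr 1
      ext i j; by_cases h : i = j <;> simp [h, map_neg, Matrix.one_apply, CharTwo.neg_eq]
    simpa [Matrix.map_mul, Matrix.transpose_map, hJ] using h'⟩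
  map_one' := Subtype.ext (Matrix.map_one _ (map_zero _) (map_one _))
  map_mul' A B := Subtype.ext Matrix.map_mul

/-- A vector over the prime field as one over `F`. -/
noncomputable def vec (v : Fin 2 ⊕ Fin 2 → ZMod 2) : V := fun i => ZMod.castHom (dvd_refl 2) F (v i)

theorem app_ofPrime (A : G₂) (v : Fin 2 ⊕ Fin 2 → ZMod 2) :
    app (ofPrime A : G) (vec v) = vec (app A v) := by
  funext i
  exact (RingHom.map_mulVec (ZMod.castHom (dvd_refl 2) F) _ v i).symm

theorem ofPrime_T (v : Fin 2 ⊕ Fin 2 → ZMod 2) (c : ZMod 2) :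
    (ofPrime (T v c) : G) = T (vec v) (ZMod.castHom (dvd_refl 2) F c) := by
  refine Subtype.ext (Matrix.ext fun i j => ?_)
  have hJ : ∀ i, ZMod.castHom (dvd_refl 2) F ((J (Fin 2) (ZMod 2) *ᵥ v) i) =
      (J (Fin 2) F *ᵥ vec v) i := fun i => by
    rw [RingHom.map_mulVec]
    congr 2
    ext k l
    rcases k with k | k <;> rcases l with l | l <;> by_cases h : k = l <;>
      simp [J, h, map_neg, Matrix.one_apply, CharTwo.neg_eq]
  show ZMod.castHom (dvd_refl 2) F (sympTransvection 2 v c i j) = sympTransvection 2 (vec v) _ i j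
  simp only [sympTransvection, Matrix.add_apply, Matrix.smul_apply, vecMulVec_apply, smul_eq_mul,
    map_add, map_mul, hJ]
  rcases eq_or_ne i j with rfl | h
  · simp [vec]
  · simp [vec, Matrix.one_apply_ne h]

theorem ofPrime_U (v w : Fin 2 ⊕ Fin 2 → ZMod 2) (c : ZMod 2) :
    (ofPrime (U v w c) : G) = U (vec v) (vec w) (ZMod.castHom (dvd_refl 2) F c) := by
  have h : (vec (v + w) : V) = vec v + vec w := funext fun i => map_add _ _ _
  simp only [U, map_mul, ofPrime_T, h, map_add, map_one]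

theorem ofPrime_injective : Function.Injective (ofPrime : G₂ →* G) := fun A B h =>
  Subtype.ext (Matrix.map_injective (RingHom.injective _) (congrArg Subtype.val h :))

theorem eq_zero_or_one (hq : Nat.card F = 2) (x : F) : x = 0 ∨ x = 1 := by
  haveI := Fintype.ofFinite F
  refine (eq_or_ne x 0).imp_right fun hx => ?_
  have := FiniteField.pow_card_sub_one_eq_one x hx
  rwa [← Nat.card_eq_fintype_card, hq, pow_one] at this

variable {L : Subgroup (Matrix.symplecticGroup (Fin 2) F)} {a e : Fin 2 ⊕ Fin 2 → F}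
  {f g : (Fin 2 ⊕ Fin 2 → F) → F}

/-- The case of dimension four over two elements. -/
theorem two_case (hq : Nat.card F = 2) (hT : TFree L a) (P : Pair L a e f g) :
    120 ≤ Nat.card L ∨ (Form a e f ∧ Gens a e f ≤ L ∧ L ≤ Iso (qv a e f)) := by
  have hc0 : ∀ {c : ZMod 2}, c = 0 → ZMod.castHom (dvd_refl 2) F c = 0 := fun h => by rw [h, map_zero]
  have single : ∀ i, (vec (Pi.single i 1) : V) = Pi.single i 1 := fun i => funext fun j => by
    by_cases h : j = i
    · subst h; simp [vec]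
    · simp [vec, h]
  obtain ⟨g₀, -, ha', he'⟩ := exists_move_pair (k := 0) (u := (vec Data.v₀ : V)) (v := vec Data.v₂)
    (u' := a) (v' := e) (mem_W_zero _) (mem_W_zero _) (mem_W_zero _) (mem_W_zero _)
    (by rw [Data.v₀, Data.v₂, single, single, f_inr]; simp [CharTwo.neg_eq]) P.ae
  obtain ⟨ψ, hψ⟩ : ∃ ψ : G₂ →* G, ψ = (MulAut.conj g₀).toMonoidHom.comp ofPrime := ⟨_, rfl⟩
  have hψi : Function.Injective ψ := hψ ▸ (MulAut.conj g₀).injective.comp ofPrime_injective
  have hψU : ∀ v w c, ψ (U v w c) =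
      U (app g₀ (vec v)) (app g₀ (vec w)) (ZMod.castHom (dvd_refl 2) F c) := fun v w c => by
    rw [hψ]
    show g₀ * ofPrime (U v w c) * g₀⁻¹ = _
    rw [ofPrime_U, conj_U]
  have surj : ∀ x : F, ∃ c : ZMod 2, ZMod.castHom (dvd_refl 2) F c = x := fun x => by
    rcases eq_zero_or_one hq x with rfl | rfl
    exacts [⟨0, map_zero _⟩, ⟨1, map_one _⟩]
  obtain ⟨y, hy⟩ : ∃ y, y = app g₀ (vec Data.v₁) := ⟨_, rfl⟩
  obtain ⟨z, hz⟩ : ∃ z, z = app g₀ (vec Data.v₃) := ⟨_, rfl⟩
  have hay : ω a y = 0 := by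
    rw [← ha', hy, f_app, Data.v₀, Data.v₁, single, single, f_inl]; simp
  have haz : ω a z = 0 := by
    rw [← ha', hz, f_app, Data.v₀, Data.v₃, single, single, f_inr]; simp
  have hey : ω e y = 0 := by
    rw [← he', hy, f_app, Data.v₂, Data.v₁, single, single, f_inl]; simp
  have hez : ω e z = 0 := by
    rw [← he', hz, f_app, Data.v₂, Data.v₃, single, single, f_inr]; simp
  obtain ⟨fy, hfy⟩ := surj (f y)
  obtain ⟨fz, hfz⟩ := surj (f z)
  obtain ⟨gy, hgy⟩ := surj (g y)
  obtain ⟨gz, hgz⟩ := surj (g z)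
  -- the certificate on any subgroup with the four generators
  have hcert : ∀ K : Subgroup G, U a y (f y) ∈ K → U a z (f z) ∈ K → U e y (g y) ∈ K →
      U e z (g z) ∈ K → 120 ∣ Nat.card K ∨ ((f y = g y ∧ f z = g z) ∧
        (60 ∣ Nat.card K ∨ (36 ∣ Nat.card K ∧ (f y = 0 ∨ f z = 0)))) := by
    intro K h1 h2 h3 h4
    have hd : Nat.card (K.comap ψ) ∣ Nat.card K := by
      rw [Nat.card_congr ((K.comap ψ).equivMapOfInjective ψ hψi).toEquiv]
      exact Subgroup.card_dvd_of_le (Subgroup.map_comap_le ψ K)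
    rcases Data.cert (K.comap ψ) fy fz gy gz
        (by rw [Subgroup.mem_comap, hψU, ha', ← hy, hfy]; exact h1)
        (by rw [Subgroup.mem_comap, hψU, ha', ← hz, hfz]; exact h2)
        (by rw [Subgroup.mem_comap, hψU, he', ← hy, hgy]; exact h3)
        (by rw [Subgroup.mem_comap, hψU, he', ← hz, hgz]; exact h4) with h | ⟨⟨e1, e2⟩, h⟩
    · exact Or.inl (h.trans hd)
    · refine Or.inr ⟨⟨by rw [← hfy, ← hgy, e1], by rw [← hfz, ← hgz, e2]⟩, ?_⟩
      rcases h with h | ⟨h, h0⟩
      · exact Or.inl (h.trans hd)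
      · exact Or.inr ⟨h.trans hd, h0.imp (fun h => hfy ▸ hc0 h) (fun h => hfz ▸ hc0 h)⟩
  rcases hcert L (P.hf y hay hey) (P.hf z haz hez) (P.hg y hay hey) (P.hg z haz hez) with
    h | ⟨⟨e1, e2⟩, -⟩
  · exact Or.inl (Nat.le_of_dvd Nat.card_pos h)
  -- the two functions agree
  have hspan : ∀ b, ω a b = 0 → ω e b = 0 → ∃ s t : F, b = s • y + t • z := by
    intro b hab heb
    obtain ⟨v, hv⟩ : ∃ v, v = app g₀⁻¹ b := ⟨_, rfl⟩
    refine ⟨v (.inl 1), v (.inr 1), ?_⟩
    have h0 : v (.inr 0) = 0 := by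
      rw [← f_inl v, ← single, ← f_app g₀, show Pi.single (Sum.inl 0) (1 : ZMod 2) = Data.v₀ from rfl,
        ha', hv, app_inv', w_comm, hab]
    have h2 : v (.inl 0) = 0 := by
      rw [← CharTwo.neg_eq (v (.inl 0)), ← f_inr v, ← single, ← f_app g₀,
        show Pi.single (Sum.inr 0) (1 : ZMod 2) = Data.v₂ from rfl, he', hv, app_inv', w_comm, heb]
    have hv' : v = v (.inl 1) • vec Data.v₁ + v (.inr 1) • vec Data.v₃ := by
      funext i
      rw [Data.v₁, Data.v₃, single, single]
      rcases i with i | i <;> fin_cases i <;> simp [h0, h2]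
    rw [hy, hz, ← app_smul, ← app_smul, ← app_add, ← hv', hv, app_inv']
  have hsq : ∀ (t : F) (b : V), f (t • b) = t * t * f b := fun t b => by
    rcases eq_zero_or_one hq t with rfl | rfl
    · rw [zero_smul, P.f_zero hT, zero_mul, zero_mul]
    · rw [one_smul, one_mul, one_mul]
  have gsq : ∀ (t : F) (b : V), g (t • b) = t * t * g b := fun t b => by
    rcases eq_zero_or_one hq t with rfl | rfl
    · rw [zero_smul, P.symm.f_zero (tfree_orb hT P.orb), zero_mul, zero_mul]
    · rw [one_smul, one_mul, one_mul]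
  have hfg : ∀ b, ω a b = 0 → ω e b = 0 → f b = g b ∧ ∀ t : F, f (t • b) = t * t * f b := by
    intro b hab heb
    refine ⟨?_, fun t => hsq t b⟩
    obtain ⟨s, t, rfl⟩ := hspan b hab heb
    have k1 : ω a (s • y) = 0 := by rw [f_smul_right, hay, mul_zero]
    have k2 : ω e (s • y) = 0 := by rw [f_smul_right, hey, mul_zero]
    have k3 : ω a (t • z) = 0 := by rw [f_smul_right, haz, mul_zero]
    have k4 : ω e (t • z) = 0 := by rw [f_smul_right, hez, mul_zero]
    rw [P.f_add hT k1 k2 k3 k4, P.symm.f_add (tfree_orb hT P.orb) k2 k1 k4 k3, hsq, hsq, gsq, gsq,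
      e1, e2]
  obtain ⟨D, hKL⟩ := P.form le_rfl hT hfg
  by_cases hI : L ≤ Iso (qv a e f)
  · exact Or.inr ⟨D, hKL, hI⟩
  left
  by_contra hlt
  have hKI := D.gens_le_iso
  have hne : Gens a e f ≠ L := fun h => hI (h ▸ hKI)
  obtain ⟨k, hk⟩ := Subgroup.card_dvd_of_le hKL
  have hKpos : 0 < Nat.card (Gens a e f) := Nat.card_pos
  have hk2 : 2 ≤ k := by
    by_contra hk'
    refine hne (Subgroup.eq_of_le_of_card_ge hKL ?_)
    rw [hk]
    exact le_trans (Nat.mul_le_mul_left _ (by omega : k ≤ 1)) (le_of_eq (mul_one _))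
  rcases hcert _ (gens_left hay hey) (gens_left haz hez)
      (by rw [← e1]; exact gens_right hay hey) (by rw [← e2]; exact gens_right haz hez) with
    h | ⟨-, h | ⟨h, h0⟩⟩
  · have := Nat.le_of_dvd hKpos h
    exact hlt (le_trans this (Subgroup.card_le_of_le hKL))
  · have := Nat.le_of_dvd hKpos h
    exact hlt (le_trans (show 120 ≤ Nat.card (Gens a e f) * k from
      le_trans (Nat.mul_le_mul this hk2) le_rfl) (le_of_eq hk.symm))
  -- index two, hence normal, but then the singular vectors are preserved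
  obtain ⟨w, haw, hew, hfw, hw0⟩ : ∃ w, ω a w = 0 ∧ ω e w = 0 ∧ f w = 0 ∧ w ≠ 0 := by
    rcases h0 with h0 | h0
    · refine ⟨y, hay, hey, h0, hy ▸ app_ne_zero g₀ fun h => ?_⟩
      rw [Data.v₁, single] at h
      simpa using congrFun h (.inl 1)
    · refine ⟨z, haz, hez, h0, hz ▸ app_ne_zero g₀ fun h => ?_⟩
      rw [Data.v₃, single] at h
      simpa using congrFun h (.inr 1)
  have hdvd : Nat.card L ∣ 720 := by
    have h1 := Subgroup.card_subgroup_dvd_card L
    rw [card_symplectic, hq] at h1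
    exact h1.trans (by decide)
  obtain ⟨j, hj⟩ := h
  have hj1 : 1 ≤ j := by
    rcases Nat.eq_zero_or_pos j with rfl | h'
    · omega
    · exact h'
  have hjk : Nat.card L = 36 * (j * k) := by rw [hk, hj, mul_assoc]
  have hlt' : j * k < 4 := by
    rw [hjk] at hlt
    omega
  have hjk2 : 2 ≤ j * k := le_trans hk2 (Nat.le_mul_of_pos_left _ hj1)
  have hidx : k = 2 := by
    rcases (show j * k = 2 ∨ j * k = 3 by omega) with h' | h'
    · have : k ∣ 2 := ⟨j, by rw [← h', mul_comm]⟩
      have := Nat.le_of_dvd (by norm_num) this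
      omega
    · rw [hjk, h'] at hdvd
      norm_num at hdvd
  have hnormal : ((Gens a e f).subgroupOf L).Normal := Subgroup.normal_of_index_eq_two <| by
    have h1 := Subgroup.card_mul_index ((Gens a e f).subgroupOf L)
    rw [Nat.card_congr (Subgroup.subgroupOfEquivOfLe hKL).toEquiv, hk] at h1
    exact (Nat.eq_of_mul_eq_mul_left hKpos h1).trans hidx
  have hconj : ∀ l ∈ L, ∀ x ∈ Gens a e f, l * x * l⁻¹ ∈ Gens a e f := fun l hl x hx =>
    hnormal.conj_mem ⟨x, hKL hx⟩ hx ⟨l, hl⟩
  refine hI (D.le_iso hT P.orb hKL ?_)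
  have sing : ∀ l ∈ L, qv a e f (app l a) = 0 := by
    intro l hl
    by_contra hne'
    have ha0 : a ≠ 0 := fun h => one_ne_zero (α := F) (by rw [← D.ae, h, f_zero_left])
    have h1 : qv a e f (app l a) = 1 := (eq_zero_or_one hq _).resolve_left hne'
    have hall : ∀ v, qv a e f v = 0 → v ≠ 0 → qv a e f (app l v) = 1 := by
      intro v hv hv0
      obtain ⟨k₁, hk₁, h₁⟩ := D.move_singular hv hv0
      obtain ⟨k₂, hk₂, h₂⟩ := D.move_singular D.q_left ha0
      have e : app l v = app (l * (k₁⁻¹ * k₂) * l⁻¹) (app l a) := by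
        rw [app_mul, app_inv, app_mul, app_mul, h₂, ← h₁, app_inv]
      rw [e, hKI (hconj l hl _ (mul_mem (inv_mem hk₁) hk₂)), h1]
    have q1 := hall w (by rw [D.q_of_W haw hew, hfw]) hw0
    have haw0 : a + w ≠ 0 := fun h => by
      have := congrArg (fun v => ω e v) h
      simp [f_add_right, w_comm a e, D.ae, hew, f_zero_right] at this
    have q2 := hall (a + w) (by rw [D.q_add, D.q_left, D.q_of_W haw hew, hfw, haw]; simp) haw0
    rw [app_add, D.q_add, h1, q1, f_app, haw, CharTwo.add_self_eq_zero, zero_add] at q2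
    exact zero_ne_one q2
  rintro v ⟨l, hl, c, -, rfl⟩
  rw [D.q_smul, sing l hl, mul_zero]

end two

section main

variable {F : Type*} [Field F] [Finite F] [CharP F 2] {m : ℕ}

local notation "V" => (Fin m ⊕ Fin m → F)
local notation "G" => Matrix.symplecticGroup (Fin m) F
local notation "ω" => sympForm m F

variable {L : Subgroup (Matrix.symplecticGroup (Fin m) F)} {a : Fin m ⊕ Fin m → F}

/-- Irreducible groups contain a partner in the orbit. -/
theorem exists_partner (hm : 1 ≤ m) (ha : a ≠ 0)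
    (hirr : ∀ W : Submodule F V, (∀ g ∈ L, ∀ w ∈ W, app g w ∈ W) → W = ⊥ ∨ W = ⊤) :
    ∃ e, Orb L a e ∧ ω a e = 1 := by
  by_contra hc
  push Not at hc
  have h0 : ∀ v, Orb L a v → ω a v = 0 := fun v hv => by
    by_contra h
    exact hc _ (orb_smul hv (inv_ne_zero h)) (by rw [f_smul_right, inv_mul_cancel₀ h])
  rcases hirr (Submodule.span F {v | Orb L a v}) (fun g hg w hw => by
    induction hw using Submodule.span_induction with
    | mem x hx => exact Submodule.subset_span (orb_app hx hg)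
    | zero => rw [app, mulVec_zero]; exact Submodule.zero_mem _
    | add x y _ _ hx hy => rw [app_add]; exact Submodule.add_mem _ hx hy
    | smul c x _ hx => rw [app_smul]; exact Submodule.smul_mem _ c hx) with h | h
  · have : a ∈ Submodule.span F {v | Orb L a v} := Submodule.subset_span orb_self
    rw [h, Submodule.mem_bot] at this
    exact ha this
  · refine ha (eq_zero_of_f a fun v => ?_)
    have hv : v ∈ Submodule.span F {v | Orb L a v} := h ▸ Submodule.mem_top
    induction hv using Submodule.span_induction with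
    | mem x hx => exact h0 x hx
    | zero => exact f_zero_right a
    | add x y _ _ hx hy => rw [f_add_right, hx, hy, add_zero]
    | smul c x _ hx => rw [f_smul_right, hx, mul_zero]

/-- The classification. -/
theorem classification (hm : 2 ≤ m) (hG : Graph L a) (ha : a ≠ 0)
    (hirr : ∀ W : Submodule F V, (∀ g ∈ L, ∀ w ∈ W, app g w ∈ W) → W = ⊥ ∨ W = ⊤) :
    L = ⊤ ∨
    (∃ Q : QuadraticForm F V, (∀ u v, QuadraticMap.polar ⇑Q u v = ω u v) ∧
      (L = Iso ⇑Q ∨ ∀ g, g ∈ L ↔ (g ∈ Iso ⇑Q ∧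
        Even (((g : G) : Matrix (Fin m ⊕ Fin m) (Fin m ⊕ Fin m) F) - 1).rank))) ∨
    (Nat.card F = 2 ∧ m = 2 ∧
      (Nonempty (L ≃* alternatingGroup (Fin 6)) ∨ Nonempty (L ≃* Equiv.Perm (Fin 5)))) := by
  obtain ⟨e, he, hae⟩ := exists_partner (by omega) ha hirr
  obtain ⟨f, g, P⟩ := exists_pair hG he hae
  by_cases hT : TFree L a
  swap
  · exact Or.inl (eq_top_of_T hm hG P hT)
  have fin : ∀ (D : Form a e f), Gens a e f ≤ L → L ≤ Iso (qv a e f) →
      ∃ Q : QuadraticForm F V, (∀ u v, QuadraticMap.polar ⇑Q u v = ω u v) ∧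
        (L = Iso ⇑Q ∨ ∀ g, g ∈ L ↔ (g ∈ Iso ⇑Q ∧
          Even (((g : G) : Matrix (Fin m ⊕ Fin m) (Fin m ⊕ Fin m) F) - 1).rank)) :=
    fun D h1 h2 => ⟨D.toQuad, D.polar_eq, D.between h1 h2⟩
  by_cases hbig : 3 ≤ m ∨ 3 ≤ Nat.card F
  · right; left
    have hZ := zero_of hbig hG hT ha
    obtain ⟨D, hKL⟩ := P.form hm hT fun b h1 h2 => P.quad hT hm hZ h1 h2
    exact fin D hKL (D.le_iso hT P.orb hKL fun v hv => D.singular_of_orb hT P.orb hKL hZ hv)
  push Not at hbig
  obtain rfl : m = 2 := by omega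
  have hq : Nat.card F = 2 := by
    have := Finite.one_lt_card (α := F)
    omega
  rcases two_case hq hT P with h | ⟨D, h1, h2⟩
  · rcases of_card_ge hq L h with h | h
    · exact Or.inl h
    · exact Or.inr (Or.inr ⟨hq, rfl, h⟩)
  · exact Or.inr (Or.inl (fin D h1 h2))

/-- Elements of a normal two-group of the stabiliser of `a` act trivially on `a^⊥ / a`. -/
theorem exists_U_of_normal (hm : 2 ≤ m) (ha : a ≠ 0) (N : Subgroup G) (hN : IsPGroup 2 N)
    (hfix : ∀ g ∈ N, app g a = a)
    (hnorm : ∀ h : G, app h a = a → ∀ g ∈ N, h * g * h⁻¹ ∈ N) {e : V} (hae : ω a e = 1)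
    {g : G} (hg : g ∈ N) :
    ∃ b l, ω a b = 0 ∧ ω e b = 0 ∧ g = U a b l := by
  classical
  let W := {w : V // ω a w = 0 ∧ ω e w = 0}
  have wd : ∀ (g : G), app g a = a → ∀ v : V, ω a v = 0 →
      pr a e (app g (pr a e v)) = pr a e (app g v) := by
    intro g hga v hv
    conv_rhs => rw [decomp (a := a) (e := e) v, w_comm a v, hv, zero_smul, add_zero, app_add,
      app_smul, hga, pr_add, pr_smul, pr_self hae, smul_zero, zero_add]
  letI : MulAction N W :=
    { smul := fun g w => ⟨pr a e (app (g : G) w.1), pr_left hae _, pr_right hae _⟩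
      one_smul := fun w => Subtype.ext (by
        show pr a e (app (1 : G) w.1) = w.1
        rw [app_one, pr_fix w.2.1 w.2.2])
      mul_smul := fun g h w => Subtype.ext (by
        show pr a e (app ((g : G) * (h : G)) w.1) = pr a e (app (g : G) (pr a e (app (h : G) w.1)))
        have hh : ω a (app (h : G) w.1) = 0 := by
          have := f_app (h : G) a w.1
          rwa [hfix _ h.2, w.2.1] at this
        rw [app_mul, wd _ (hfix _ g.2) _ hh]) }
  have hp : 2 ∣ Nat.card W := by
    let d := exists_ne_in (a := a) (e := e) hm (0 : V)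
    obtain ⟨d, hd1, hd2, -, hd0⟩ := d
    let K : Submodule F V := (perp a) ⊓ (perp e)
    have : Nat.card W = Nat.card K := Nat.card_congr (Equiv.refl _)
    rw [this, Module.natCard_eq_pow_finrank (K := F)]
    haveI := Fintype.ofFinite F
    obtain ⟨s, hs1, hs⟩ := FiniteField.card F 2
    have hr : Module.finrank F K ≠ 0 := fun h => by
      have hK : K = ⊥ := Submodule.finrank_eq_zero.1 h
      have : d ∈ K := ⟨hd1, hd2⟩
      rw [hK, Submodule.mem_bot] at this
      exact hd0 this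
    rw [Nat.card_eq_fintype_card, hs, ← pow_mul]
    exact dvd_pow_self 2 (Nat.mul_ne_zero s.pos.ne' hr)
  haveI : Fact (Nat.Prime 2) := ⟨Nat.prime_two⟩
  obtain ⟨w₀, hw₀, hw₀0⟩ := hN.exists_fixed_point_of_prime_dvd_card_of_fixed_point W hp
    (a := (⟨0, f_zero_right a, f_zero_right e⟩ : W)) (fun g => Subtype.ext (by
      show pr a e (app (g : G) 0) = 0
      rw [app, mulVec_zero]
      simp [pr, f_zero_left]))
  have hw₀ne : w₀.1 ≠ 0 := fun h => hw₀0 (Subtype.ext h.symm)
  -- every fixed class can be moved to any other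
  have key : ∀ u : W, (∀ g : N, g • u = u) → ∀ w : W, ω u.1 w.1 ≠ 0 → ∀ g : N, g • w = w := by
    intro u hu w hne g
    obtain ⟨h, hh⟩ : ∃ h, h = T (w.1 - u.1) (ω u.1 w.1)⁻¹ := ⟨_, rfl⟩
    have hha : app h a = a := by
      rw [hh, app_T, f_sub_right, w.2.1, u.2.1]; simp
    have hhu : app h u.1 = w.1 := hh ▸ T_diff hne
    have hg' := hnorm h⁻¹ (by have := congrArg (app h⁻¹) hha; rw [app_inv] at this; exact this.symm) g g.2
    have h1 := congrArg Subtype.val (hu ⟨_, hg'⟩)
    change pr a e (app (h⁻¹ * (g : G) * h⁻¹⁻¹) u.1) = u.1 at h1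
    rw [inv_inv, app_mul, app_mul, hhu] at h1
    refine Subtype.ext ?_
    show pr a e (app (g : G) w.1) = w.1
    have hag : ω a (app (g : G) w.1) = 0 := by
      have := f_app (g : G) a w.1
      rwa [hfix _ g.2, w.2.1] at this
    have hah : ω a (app h⁻¹ (app (g : G) w.1)) = 0 := by
      rw [← f_app h, app_inv', hha, hag]
    have h2 := congrArg (fun v => pr a e (app h v)) h1
    rw [show pr a e (app h (pr a e (app h⁻¹ (app (g : G) w.1)))) =
        pr a e (app (g : G) w.1) by rw [wd h hha _ hah, app_inv'], hhu, pr_fix w.2.1 w.2.2] at h2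
    exact h2
  have all : ∀ w : W, ∀ g : N, g • w = w := by
    obtain ⟨z, hz⟩ : ∃ z, ω w₀.1 z ≠ 0 := by
      by_contra hc
      push Not at hc
      exact hw₀ne (eq_zero_of_f _ hc)
    intro w
    by_cases hw : w.1 = 0
    · intro g
      refine Subtype.ext ?_
      show pr a e (app (g : G) w.1) = w.1
      rw [hw, app, mulVec_zero]
      simp [pr, f_zero_left]
    obtain ⟨z', hz'⟩ : ∃ z', ω w.1 z' ≠ 0 := by
      by_contra hc
      push Not at hc
      exact hw (eq_zero_of_f _ hc)
    obtain ⟨x, hx, hx1, hx2⟩ := exists_ne_pair ((perp a) ⊓ (perp e)) (a := fun v => ω w₀.1 v)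
      (b := fun v => ω w.1 v) (f_add_right _) (f_add_right _)
      ⟨pr a e z, ⟨pr_left hae z, pr_right hae z⟩, by rw [f_pr w₀.2.1 w₀.2.2]; exact hz⟩
      ⟨pr a e z', ⟨pr_left hae z', pr_right hae z'⟩, by rw [f_pr w.2.1 w.2.2]; exact hz'⟩
    exact key ⟨x, hx⟩ (key w₀ hw₀ ⟨x, hx⟩ hx1) w (by
      show ω x w.1 ≠ 0
      rw [w_comm]; exact hx2)
  -- read off the element
  have hga := hfix g hg
  obtain ⟨b, hb⟩ : ∃ b, b = pr a e (app g e) := ⟨_, rfl⟩
  refine ⟨b, ω (app g e) e, hb ▸ pr_left hae _, hb ▸ pr_right hae _, ext_app fun x => ?_⟩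
  have hab : ω a b = 0 := hb ▸ pr_left hae _
  have heb : ω e b = 0 := hb ▸ pr_right hae _
  have hβ : ω (app g e) a = 1 := by rw [← hga, f_app, w_comm a e, hae]
  have hge : app g e = ω (app g e) e • a + e + b := by
    conv_lhs => rw [decomp (a := a) (e := e) (app g e), hβ, one_smul, ← hb]
  obtain ⟨w, hw⟩ : ∃ w, w = pr a e x := ⟨_, rfl⟩
  have haw : ω a w = 0 := hw ▸ pr_left hae x
  have hew : ω e w = 0 := hw ▸ pr_right hae x
  have hgw := congrArg Subtype.val (all ⟨w, haw, hew⟩ ⟨g, hg⟩)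
  change pr a e (app g w) = w at hgw
  have hgw' : app g w = ω w b • a + w := by
    have hag : ω a (app g w) = 0 := by rw [← hga, f_app, haw]
    obtain ⟨t, ht⟩ : ∃ t, t = ω (app g w) e := ⟨_, rfl⟩
    have h1 : app g w = t • a + w := by
      conv_lhs => rw [decomp (a := a) (e := e) (app g w), hgw, w_comm a (app g w), hag, zero_smul,
        add_zero, ← ht]
    have h2 := f_app g w e
    rw [h1, hge] at h2
    simp only [f_add_left, f_add_right, f_smul_left, f_smul_right, f_self, hab, hae,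
      w_comm a w, haw, w_comm e w, hew, mul_zero, mul_one, add_zero, zero_add] at h2
    rw [h1, CharTwo.add_eq_zero.1 h2]
  conv_lhs => rw [decomp (a := a) (e := e) x, app_add, app_add, app_smul, app_smul, hga, hge, ← hw,
    hgw']
  rw [app_U hab, hw, w_comm b (pr a e x), f_pr hab heb, w_comm x b]
  conv_rhs => enter [1, 1, 1]; rw [decomp (a := a) (e := e) x]
  module

end main

end CfsgLib.Classical.SympGraph
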