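import Cfsg.Agent.Lib.Classical.SympGraph.Cases
import Cfsg.Agent.Lib.Classical.OrthDickson

set_option autoImplicit false

/-!
The orthogonal group spanned by the two graphs of one quadratic form.
-/

namespace CfsgLib.Classical.SympGraph

open Matrix Cfsg SympTrans

variable {F : Type*} [Field F] [Finite F] [CharP F 2] {m : ℕ}

local notation "V" => (Fin m ⊕ Fin m → F)
local notation "G" => Matrix.symplecticGroup (Fin m) F
local notation "ω" => sympForm m F

variable {L K : Subgroup (Matrix.symplecticGroup (Fin m) F)} {a e : Fin m ⊕ Fin m → F}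
  {f : (Fin m ⊕ Fin m → F) → F}

/-- A quadratic function on the complement of a hyperbolic pair. -/
structure Form (a e : V) (f : V → F) : Prop where
  ae : ω a e = 1
  two_le : 2 ≤ m
  smul : ∀ b, ω a b = 0 → ω e b = 0 → ∀ t : F, f (t • b) = t * t * f b
  add : ∀ b c, ω a b = 0 → ω e b = 0 → ω a c = 0 → ω e c = 0 →
    f (b + c) = f b + f c + ω b c

theorem pr_add (u v : V) : pr a e (u + v) = pr a e u + pr a e v := by
  simp only [pr, f_add_left, add_smul]; abel

theorem pr_smul (t : F) (v : V) : pr a e (t • v) = t • pr a e v := by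
  simp only [pr, f_smul_left, smul_add, smul_smul]

theorem pr_self (hae : ω a e = 1) : pr a e a = 0 := by
  rw [pr, hae, f_self, one_smul, zero_smul, add_zero, vadd_self]

theorem pr_self' (hae : ω a e = 1) : pr a e e = 0 := by
  rw [pr, w_comm a e, hae, f_self, one_smul, zero_smul, add_zero, vadd_self]

theorem pr_fix {b : V} (hab : ω a b = 0) (heb : ω e b = 0) : pr a e b = b := by
  rw [pr, w_comm a b, w_comm e b, hab, heb, zero_smul, zero_smul, add_zero, add_zero]

theorem decomp (v : V) : v = ω v e • a + ω v a • e + pr a e v := by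
  rw [pr]
  have h1 := vadd_self (ω v e • a)
  have h2 := vadd_self (ω v a • e)
  calc v = v + (ω v e • a + ω v e • a) + (ω v a • e + ω v a • e) := by
        rw [h1, h2, add_zero, add_zero]
    _ = _ := by abel

/-- The form on the whole space. -/
def qv (a e : V) (f : V → F) (v : V) : F := ω v e * ω v a + f (pr a e v)

theorem Form.f_zero (D : Form a e f) : f 0 = 0 := by
  have h := D.smul 0 (f_zero_right a) (f_zero_right e) 0
  rwa [zero_smul, mul_zero, zero_mul] at h

theorem Form.q_smul (D : Form a e f) (t : F) (v : V) :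
    qv a e f (t • v) = t * t * qv a e f v := by
  rw [qv, qv, f_smul_left, f_smul_left, pr_smul, D.smul _ (pr_left D.ae v) (pr_right D.ae v)]
  ring

theorem Form.q_add (D : Form a e f) (u v : V) :
    qv a e f (u + v) = qv a e f u + qv a e f v + ω u v := by
  rw [qv, qv, qv, f_add_left, f_add_left, pr_add,
    D.add _ _ (pr_left D.ae u) (pr_right D.ae u) (pr_left D.ae v) (pr_right D.ae v)]
  have h : ω (pr a e u) (pr a e v) = ω u v + ω v e * ω u a + ω v a * ω u e := by
    rw [f_pr (pr_left D.ae u) (pr_right D.ae u), pr, f_add_left, f_add_left, f_smul_left,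
      f_smul_left, w_comm v a, w_comm v e]
    ring
  rw [h]
  linear_combination (ω u a * ω v e + ω u e * ω v a) * two_zero (F := F)

theorem Form.q_of_W (D : Form a e f) {b : V} (hab : ω a b = 0) (heb : ω e b = 0) :
    qv a e f b = f b := by
  rw [qv, pr_fix hab heb, w_comm e b, heb, zero_mul, zero_add]

theorem Form.q_left (D : Form a e f) : qv a e f a = 0 := by
  rw [qv, f_self, mul_zero, pr_self D.ae, D.f_zero, add_zero]

theorem Form.q_right (D : Form a e f) : qv a e f e = 0 := by
  rw [qv, f_self, zero_mul, pr_self' D.ae, D.f_zero, add_zero]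

theorem Form.q_zero (D : Form a e f) : qv a e f 0 = 0 := by
  have h := D.q_smul 0 0
  rwa [zero_smul, mul_zero, zero_mul] at h

theorem Form.surj (D : Form a e f) (μ : F) : ∃ b, ω a b = 0 ∧ ω e b = 0 ∧ f b = μ := by
  obtain ⟨b, hab, heb, hb⟩ : ∃ b, ω a b = 0 ∧ ω e b = 0 ∧ f b ≠ 0 := by
    by_contra hc
    push Not at hc
    obtain ⟨c, hac, hec, -, hc0⟩ := exists_ne_in (a := a) (e := e) D.two_le (0 : V)
    refine hc0 (eq_zero_of_f c fun v => ?_)
    rw [← f_pr hac hec v]
    have h := D.add c _ hac hec (pr_left D.ae v) (pr_right D.ae v)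
    rw [hc c hac hec, hc _ (pr_left D.ae v) (pr_right D.ae v), hc _ (by
      rw [f_add_right, hac, pr_left D.ae, add_zero]) (by
      rw [f_add_right, hec, pr_right D.ae, add_zero])] at h
    simpa using h.symm
  obtain ⟨r, hr⟩ := exists_square_root (μ / f b)
  exact ⟨r • b, by rw [f_smul_right, hab, mul_zero], by rw [f_smul_right, heb, mul_zero],
    by rw [D.smul b hab heb, hr, div_mul_cancel₀ _ hb]⟩

/-- The isometries of a function. -/
def Iso (Q : V → F) : Subgroup G where
  carrier := {g | ∀ x, Q (app g x) = Q x}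
  mul_mem' {g h} hg hh x := by rw [app_mul, hg, hh]
  one_mem' x := by rw [app_one]
  inv_mem' {g} hg x := by rw [← hg (app g⁻¹ x), app_inv']

/-- The quadratic form. -/
def Form.toQuad (D : Form a e f) : QuadraticForm F V :=
  QuadraticMap.ofPolar (qv a e f) (fun t v => by rw [D.q_smul, smul_eq_mul])
    (fun u v w => by
      simp only [QuadraticMap.polar, D.q_add, f_add_left]; ring)
    (fun t u v => by
      simp only [QuadraticMap.polar, D.q_add, f_smul_left, smul_eq_mul]; ring)

theorem Form.toQuad_coe (D : Form a e f) : (⇑D.toQuad : V → F) = qv a e f := rfl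

theorem Form.polar_eq (D : Form a e f) (u v : V) : QuadraticMap.polar ⇑D.toQuad u v = ω u v := by
  simp only [QuadraticMap.polar, D.toQuad_coe, D.q_add]; ring

theorem Form.nondeg (D : Form a e f) : CfsgLib.Orth.Nondeg D.toQuad :=
  fun x hx => eq_zero_of_f x fun v => by rw [← D.polar_eq]; exact hx v

/-- The inclusion into the isometry group of the form. -/
def Form.toGrp (D : Form a e f) : Iso (qv a e f) →* CfsgLib.Orth.Grp D.toQuad where
  toFun g := ⟨(toSpGL (g : G) : GL (Fin m ⊕ Fin m) F), fun u _ => g.2 u⟩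
  map_one' := Subtype.ext (by simp)
  map_mul' g h := Subtype.ext (by simp)

theorem Form.ap_toGrp (D : Form a e f) (g : Iso (qv a e f)) (x : V) :
    CfsgLib.Orth.ap (D.toGrp g) x = app (g : G) x := rfl

/-- The sign of an isometry. -/
noncomputable def Form.sign (D : Form a e f) : Iso (qv a e f) →* ℤˣ :=
  (CfsgLib.Orth.dickson D.nondeg).comp D.toGrp

theorem Form.sign_eq (D : Form a e f) (g : Iso (qv a e f)) :
    D.sign g = (-1) ^ (((g : G) : Matrix (Fin m ⊕ Fin m) (Fin m ⊕ Fin m) F) - 1).rank := by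
  show (-1 : ℤˣ) ^ (Module.finrank F V + Module.finrank F (CfsgLib.Orth.fixSpace (D.toGrp g))) = _
  obtain ⟨M, hM⟩ : ∃ M, M = ((g : G) : Matrix (Fin m ⊕ Fin m) (Fin m ⊕ Fin m) F) - 1 := ⟨_, rfl⟩
  have hfix : CfsgLib.Orth.fixSpace (D.toGrp g) = LinearMap.ker (Matrix.mulVecLin M) := by
    ext x
    rw [CfsgLib.Orth.mem_fixSpace, D.ap_toGrp, LinearMap.mem_ker, Matrix.mulVecLin_apply, hM,
      Matrix.sub_mulVec, Matrix.one_mulVec, sub_eq_zero]
    rfl
  have h := LinearMap.finrank_range_add_finrank_ker (Matrix.mulVecLin M)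
  rw [← hfix] at h
  rw [← hM, Matrix.rank, ← h, add_assoc, pow_add, ← two_mul, pow_mul]
  simp

theorem Form.U_mem_iso (D : Form a e f) {b : V} (hab : ω a b = 0) (heb : ω e b = 0) :
    U a b (f b) ∈ Iso (qv a e f) := fun x => by
  have ha : ω (pr a e x) b = ω x b := by
    rw [w_comm b, f_pr hab heb, w_comm x b]
  rw [app_U hab]
  simp only [qv, f_add_left, f_smul_left, f_self, pr_add, pr_smul, pr_self D.ae, pr_fix hab heb,
    smul_zero, add_zero, D.ae, w_comm e b, heb, w_comm a b, hab]
  rw [D.add _ _ (pr_left D.ae x) (pr_right D.ae x) (by rw [f_smul_right, hab, mul_zero])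
    (by rw [f_smul_right, heb, mul_zero]), D.smul b hab heb, f_smul_right, ha]
  linear_combination (ω x a * ω x b + ω x a * ω x a * f b) * two_zero (F := F)

theorem Form.symm (D : Form a e f) : Form e a f :=
  ⟨by rw [w_comm, D.ae], D.two_le, fun b h h' => D.smul b h' h,
    fun b c h1 h2 h3 h4 => D.add b c h2 h1 h4 h3⟩

theorem qv_symm (v : V) : qv e a f v = qv a e f v := by
  rw [qv, qv, mul_comm, pr, pr, add_right_comm]

theorem iso_symm : Iso (qv e a f) = Iso (qv a e f) := by
  ext g
  exact forall_congr' fun x => by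
    rw [qv_symm (a := a) (e := e) x, qv_symm (a := a) (e := e) (app g x)]

/-- The group generated by the two graphs. -/
def Gens (a e : V) (f : V → F) : Subgroup G :=
  Subgroup.closure {x | ∃ b, ω a b = 0 ∧ ω e b = 0 ∧ (x = U a b (f b) ∨ x = U e b (f b))}

theorem gens_left {b : V} (hab : ω a b = 0) (heb : ω e b = 0) : U a b (f b) ∈ Gens a e f :=
  Subgroup.subset_closure ⟨b, hab, heb, Or.inl rfl⟩

theorem gens_right {b : V} (hab : ω a b = 0) (heb : ω e b = 0) : U e b (f b) ∈ Gens a e f :=
  Subgroup.subset_closure ⟨b, hab, heb, Or.inr rfl⟩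

theorem gens_le (hf : ∀ b, ω a b = 0 → ω e b = 0 → U a b (f b) ∈ K)
    (hg : ∀ b, ω a b = 0 → ω e b = 0 → U e b (f b) ∈ K) : Gens a e f ≤ K := by
  rw [Gens, Subgroup.closure_le]
  rintro x ⟨b, h1, h2, rfl | rfl⟩
  exacts [hf b h1 h2, hg b h1 h2]

theorem Form.gens_le_iso (D : Form a e f) : Gens a e f ≤ Iso (qv a e f) :=
  gens_le (fun b h1 h2 => D.U_mem_iso h1 h2) fun b h1 h2 => iso_symm (a := a) ▸ D.symm.U_mem_iso h2 h1

theorem gens_symm : Gens e a f = Gens a e f :=
  le_antisymm (gens_le (fun _ h1 h2 => gens_right h2 h1) fun _ h1 h2 => gens_left h2 h1)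
    (gens_le (fun _ h1 h2 => gens_right h2 h1) fun _ h1 h2 => gens_left h2 h1)

/-- `a` goes to every multiple of `e`. -/
theorem Form.torus (D : Form a e f) {γ : F} (hγ : γ ≠ 0) :
    ∃ k ∈ Gens a e f, app k a = γ • e := by
  obtain ⟨c, hac, hec, hc⟩ := D.surj γ
  obtain ⟨b, hb⟩ : ∃ b, b = γ⁻¹ • c := ⟨_, rfl⟩
  have hab : ω a b = 0 := by rw [hb, f_smul_right, hac, mul_zero]
  have heb : ω e b = 0 := by rw [hb, f_smul_right, hec, mul_zero]
  refine ⟨U a b (f b) * U e c (f c), mul_mem (gens_left hab heb) (gens_right hac hec), ?_⟩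
  have hfb : f b = γ⁻¹ := by
    rw [hb, D.smul c hac hec, hc, mul_assoc, inv_mul_cancel₀ hγ, mul_one]
  have hcb : ω c b = 0 := by rw [hb, f_smul_right, f_self, mul_zero]
  rw [app_mul, app_U hec, D.ae, hac, app_add, app_add, app_add, app_smul, app_smul, app_smul,
    app_U hab, app_U hab, app_U hab, f_self, hab, w_comm a c, hac, hcb, w_comm a e, D.ae, heb,
    hfb, hc, hb]
  simp only [mul_one, zero_smul, mul_zero, one_smul, add_zero, smul_add, smul_smul,
    mul_inv_cancel₀ hγ]
  match_scalars <;> ring_nf <;> simp [two_zero, hγ, CharTwo.add_self_eq_zero]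

/-- Non-zero singular vectors are conjugate to `e`. -/
theorem Form.move_singular (D : Form a e f) {v : V} (hv : qv a e f v = 0) (hv0 : v ≠ 0) :
    ∃ k ∈ Gens a e f, app k v = e := by
  -- reach a multiple of `e` or of `a`
  have base : ∀ {a e : V}, Form a e f → ∀ v, qv a e f v = 0 → ω v a ≠ 0 →
      ∃ k ∈ Gens a e f, app k v = ω v a • e := by
    intro a e D v hv hβ
    obtain ⟨b, hb⟩ : ∃ b, b = (ω v a)⁻¹ • pr a e v := ⟨_, rfl⟩
    have hab : ω a b = 0 := by rw [hb, f_smul_right, pr_left D.ae, mul_zero]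
    have heb : ω e b = 0 := by rw [hb, f_smul_right, pr_right D.ae, mul_zero]
    refine ⟨U a b (f b), gens_left hab heb, ?_⟩
    have h1 : ω v b = 0 := by
      rw [hb, f_smul_right, w_comm (pr a e v) v, ← f_pr (pr_left D.ae v) (pr_right D.ae v),
        f_self, mul_zero]
    have h2 : f b * ω v a = ω v e := by
      rw [hb, D.smul _ (pr_left D.ae v) (pr_right D.ae v)]
      rw [qv] at hv
      field_simp
      linear_combination hv - (ω v e * ω v a) * two_zero (F := F)
    rw [app_U hab, h1, h2, hb, smul_smul, mul_inv_cancel₀ hβ, one_smul, zero_smul, add_zero]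
    nth_rewrite 1 [decomp (a := a) (e := e) v]
    have h3 := vadd_self (ω v e • a)
    have h4 := vadd_self (pr a e v)
    calc _ = (ω v e • a + ω v e • a) + (pr a e v + pr a e v) + ω v a • e := by
          abel
      _ = _ := by rw [h3, h4]; simp
  have fin : ∀ γ : F, γ ≠ 0 → ∀ k ∈ Gens a e f, app k v = γ • a → ∃ k ∈ Gens a e f, app k v = e := by
    intro γ hγ k hk hkv
    obtain ⟨k', hk', h'⟩ := D.torus (inv_ne_zero hγ)
    exact ⟨k' * k, mul_mem hk' hk, by
      rw [app_mul, hkv, app_smul, h', smul_smul, mul_inv_cancel₀ hγ, one_smul]⟩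
  have finE : ∀ γ : F, γ ≠ 0 → ∀ k ∈ Gens a e f, app k v = γ • e → ∃ k ∈ Gens a e f, app k v = e := by
    intro γ hγ k hk hkv
    obtain ⟨k', hk', h'⟩ := D.symm.torus (γ := 1) one_ne_zero
    exact fin γ hγ (k' * k) (mul_mem (gens_symm (a := a) ▸ hk') hk)
      (by rw [app_mul, hkv, app_smul, h', one_smul])
  have caseA : ∀ {a e : V}, Form a e f → ∀ v, qv a e f v = 0 → v ≠ 0 → ω v a = 0 → ω v e = 0 →
      ∃ k ∈ Gens a e f, app k v ∈ {x : V | ω x a ≠ 0} := by
    intro a e D v hv hv0 hva hve
    obtain ⟨z, hz⟩ : ∃ z, ω v z ≠ 0 := by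
      by_contra hc
      push Not at hc
      exact hv0 (eq_zero_of_f v hc)
    refine ⟨U e (pr a e z) (f (pr a e z)), gens_right (pr_left D.ae z) (pr_right D.ae z), ?_⟩
    show ω (app _ v) a ≠ 0
    rw [app_U (pr_right D.ae z), hve, f_pr (by rw [w_comm, hva]) (by rw [w_comm, hve])]
    simp only [f_add_left, f_smul_left, hva, w_comm a e, D.ae]
    simpa using hz
  by_cases hva : ω v a = 0
  swap
  · obtain ⟨k, hk, h⟩ := base D v hv hva
    exact finE _ hva k hk h
  by_cases hve : ω v e = 0
  swap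
  · obtain ⟨k, hk, h⟩ := base D.symm v (by rwa [qv_symm]) hve
    exact fin _ hve k (gens_symm (a := a) ▸ hk) h
  obtain ⟨k, hk, h⟩ := caseA D v hv hv0 hva hve
  obtain ⟨k', hk', h'⟩ := base D (app k v) (by rw [D.gens_le_iso hk v, hv]) h
  exact finE _ h (k' * k) (mul_mem hk' hk) (by rw [app_mul, h'])

/-- Vectors of value one are conjugate to `a + e`. -/
theorem Form.move_one (D : Form a e f) {v : V} (hv : qv a e f v = 1) :
    ∃ k ∈ Gens a e f, app k v = a + e := by
  have clear_W : ∀ {a e : V}, Form a e f → ∀ v : V, qv a e f v = 1 → ω v a ≠ 0 →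
      ∃ k ∈ Gens a e f, app k v = (ω v a)⁻¹ • a + ω v a • e := by
    intro a e D v hv hβ
    obtain ⟨b, hb⟩ : ∃ b, b = (ω v a)⁻¹ • pr a e v := ⟨_, rfl⟩
    have hab : ω a b = 0 := by rw [hb, f_smul_right, pr_left D.ae, mul_zero]
    have heb : ω e b = 0 := by rw [hb, f_smul_right, pr_right D.ae, mul_zero]
    refine ⟨U a b (f b), gens_left hab heb, ?_⟩
    have h1 : ω v b = 0 := by
      rw [hb, f_smul_right, w_comm (pr a e v) v, ← f_pr (pr_left D.ae v) (pr_right D.ae v),
        f_self, mul_zero]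
    have h2 : f b * ω v a = ω v e + (ω v a)⁻¹ := by
      rw [hb, D.smul _ (pr_left D.ae v) (pr_right D.ae v)]
      rw [qv] at hv
      field_simp
      linear_combination hv - (ω v e * ω v a) * two_zero (F := F)
    rw [app_U hab, h1, h2, hb, smul_smul, mul_inv_cancel₀ hβ, one_smul, zero_smul, add_zero,
      add_smul]
    nth_rewrite 1 [decomp (a := a) (e := e) v]
    have h3 := vadd_self (ω v e • a)
    have h4 := vadd_self (pr a e v)
    calc _ = (ω v e • a + ω v e • a) + (pr a e v + pr a e v) + ω v a • e + (ω v a)⁻¹ • a := by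
          abel
      _ = _ := by rw [h3, h4]; module
  obtain ⟨v₁, k₁, hk₁, hkv₁, hβ⟩ : ∃ v₁ : V, ∃ k ∈ Gens a e f, app k v = v₁ ∧ ω v₁ a ≠ 0 := by
    by_cases hva : ω v a = 0
    swap
    · exact ⟨v, 1, one_mem _, app_one v, hva⟩
    by_cases hve : ω v e = 0
    swap
    · obtain ⟨k, hk, hkv⟩ := clear_W D.symm v (by rwa [qv_symm]) hve
      refine ⟨_, k, gens_symm (a := a) ▸ hk, rfl, ?_⟩
      rw [hkv, f_add_left, f_smul_left, f_smul_left, f_self, w_comm a e, D.ae, mul_one, mul_zero,
        add_zero]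
      exact inv_ne_zero hve
    · obtain ⟨z, hz⟩ : ∃ z, ω v z ≠ 0 := by
        by_contra hc
        push Not at hc
        rw [eq_zero_of_f v hc, D.q_zero] at hv
        exact zero_ne_one hv
      refine ⟨_, U e (pr a e z) (f (pr a e z)), gens_right (pr_left D.ae z) (pr_right D.ae z), rfl, ?_⟩
      rw [app_U (pr_right D.ae z), hve, f_pr (by rw [w_comm, hva]) (by rw [w_comm, hve])]
      simp only [f_add_left, f_smul_left, hva, w_comm a e, D.ae]
      simpa using hz
  have hv₁ : qv a e f v₁ = 1 := by rw [← hkv₁, D.gens_le_iso hk₁ v, hv]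
  -- the coefficient of `e` becomes one
  obtain ⟨β, hβ'⟩ : ∃ β, β = ω v₁ a := ⟨_, rfl⟩
  rw [← hβ'] at hβ
  obtain ⟨k₂, hk₂, hkv₂⟩ := clear_W D v₁ hv₁ (hβ' ▸ hβ)
  rw [← hβ'] at hkv₂
  obtain ⟨c, hac, hec, hc⟩ := D.surj (β * (β + 1))
  obtain ⟨c', hc'⟩ : ∃ c', c' = U e c (f c) := ⟨_, rfl⟩
  have hm' : qv a e f (app (c' * (k₂ * k₁)) v) = 1 := by
    rw [D.gens_le_iso (mul_mem (hc' ▸ gens_right hac hec) (mul_mem hk₂ hk₁)) v, hv]
  have hval : ω (app (c' * (k₂ * k₁)) v) a = 1 := by
    rw [app_mul, app_mul, hkv₁, hkv₂, hc', app_U hec]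
    simp only [f_add_left, f_smul_left, f_self, w_comm a e, D.ae, f_add_right, f_smul_right,
      w_comm e c, hec, w_comm a c, hac, hc]
    field_simp
    linear_combination β * β * two_zero (F := F)
  obtain ⟨k₃, hk₃, hkv₃⟩ := clear_W D _ hm' (by rw [hval]; exact one_ne_zero)
  refine ⟨k₃ * (c' * (k₂ * k₁)),
    mul_mem hk₃ (mul_mem (hc' ▸ gens_right hac hec) (mul_mem hk₂ hk₁)), ?_⟩
  rw [app_mul, hkv₃, hval, inv_one, one_smul, one_smul]

theorem Form.T_mem_iso (D : Form a e f) {w : V} (hw : qv a e f w = 1) :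
    T w (1 : F) ∈ Iso (qv a e f) := fun x => by
  rw [app_T, D.q_add, D.q_smul, hw, f_smul_right]
  linear_combination (ω x w * ω x w) * two_zero (F := F)

theorem Form.sign_U (D : Form a e f) {b : V} (hab : ω a b = 0) (heb : ω e b = 0)
    (h : U a b (f b) ∈ Iso (qv a e f)) : D.sign ⟨_, h⟩ = 1 := by
  by_cases hb : b = 0
  · have e1 : (⟨U a b (f b), h⟩ : Iso (qv a e f)) = 1 :=
      Subtype.ext (by show U a b (f b) = 1; rw [hb, D.f_zero, U_zero_left, T_zero])
    rw [e1, map_one]
  rw [D.sign_eq, Matrix.rank]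
  show (-1 : ℤˣ) ^ Module.finrank F (LinearMap.range (Matrix.mulVecLin _)) = 1
  suffices e2 : Module.finrank F (LinearMap.range (Matrix.mulVecLin
      ((U a b (f b) : Matrix (Fin m ⊕ Fin m) (Fin m ⊕ Fin m) F) - 1))) = 2 by
    rw [e2]; rfl
  have happ : ∀ x, ((U a b (f b) : Matrix (Fin m ⊕ Fin m) (Fin m ⊕ Fin m) F) - 1) *ᵥ x =
      ω x a • b + (ω x b + f b * ω x a) • a := fun x => by
    rw [Matrix.sub_mulVec, Matrix.one_mulVec]
    show app (U a b (f b)) x - x = _
    rw [app_U hab]; module
  have hrange : LinearMap.range (Matrix.mulVecLin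
      ((U a b (f b) : Matrix (Fin m ⊕ Fin m) (Fin m ⊕ Fin m) F) - 1)) =
      Submodule.span F (Set.range ![a, b]) := by
    refine le_antisymm ?_ ?_
    · rintro _ ⟨x, rfl⟩
      rw [Matrix.mulVecLin_apply, happ]
      exact add_mem (Submodule.smul_mem _ _ (Submodule.subset_span ⟨1, rfl⟩))
        (Submodule.smul_mem _ _ (Submodule.subset_span ⟨0, rfl⟩))
    · rw [Submodule.span_le]
      have haR : a ∈ LinearMap.range (Matrix.mulVecLin
          ((U a b (f b) : Matrix (Fin m ⊕ Fin m) (Fin m ⊕ Fin m) F) - 1)) := by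
        obtain ⟨z, hz⟩ : ∃ z, ω b z ≠ 0 := by
          by_contra hc
          push Not at hc
          exact hb (eq_zero_of_f b hc)
        refine ⟨(ω b z)⁻¹ • pr a e z, ?_⟩
        rw [Matrix.mulVecLin_apply, happ, f_smul_left, f_smul_left, w_comm a (pr a e z),
          pr_left D.ae, w_comm b (pr a e z), f_pr hab heb]
        simp [hz]
      rintro _ ⟨i, rfl⟩
      fin_cases i
      · exact haR
      · have h1 : b + f b • a ∈ LinearMap.range (Matrix.mulVecLin
            ((U a b (f b) : Matrix (Fin m ⊕ Fin m) (Fin m ⊕ Fin m) F) - 1)) := by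
          refine ⟨e, ?_⟩
          rw [Matrix.mulVecLin_apply, happ, w_comm a e, D.ae, heb, one_smul, zero_add, mul_one]
        have h2 := sub_mem h1 (Submodule.smul_mem _ (f b) haR)
        rwa [add_sub_cancel_right] at h2
  rw [hrange, finrank_span_eq_card, Fintype.card_fin]
  rw [linearIndependent_fin2]
  refine ⟨hb, fun t ht => ?_⟩
  have h1 := congrArg (fun v => ω e v) ht
  simp only [Matrix.cons_val_one, Matrix.cons_val_zero, f_smul_right, heb, w_comm a e, D.ae,
    mul_zero] at h1
  exact zero_ne_one h1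

theorem Form.sign_gens (D : Form a e f) {g : G} (hg : g ∈ Gens a e f) :
    D.sign ⟨g, D.gens_le_iso hg⟩ = 1 := by
  have key : Gens a e f ≤ (D.sign.ker).map (Iso (qv a e f)).subtype := by
    refine gens_le (fun b h1 h2 => ?_) fun b h1 h2 => ?_
    · exact ⟨⟨_, D.U_mem_iso h1 h2⟩, D.sign_U h1 h2 _, rfl⟩
    · have hh : U e b (f b) ∈ Iso (qv e a f) := D.symm.U_mem_iso h2 h1
      refine ⟨⟨_, iso_symm (a := a) ▸ hh⟩, ?_, rfl⟩
      have h := D.symm.sign_U h2 h1 hh
      rw [D.symm.sign_eq] at h
      rw [SetLike.mem_coe, MonoidHom.mem_ker, D.sign_eq]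
      exact h
  obtain ⟨x, hx, rfl⟩ := key hg
  exact hx

theorem Form.rank_T (D : Form a e f) {w : V} (hw : qv a e f w = 1) :
    D.sign ⟨_, D.T_mem_iso hw⟩ = -1 := by
  refine CfsgLib.Orth.dickson_refl D.nondeg (v := w) ⟨?_, fun x => ?_⟩
  · rw [D.toQuad_coe, hw]; exact one_ne_zero
  · rw [D.polar_eq, D.ap_toGrp, show D.toQuad w = 1 from hw, inv_one, one_mul, app_T, one_mul,
      w_comm w x, sub_eq_add_neg]
    congr 1
    rw [← neg_smul, CharTwo.neg_eq]

/-- Isometries are the graphs' group and one reflection. -/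
theorem Form.iso_cases (D : Form a e f) {g : G} (hg : g ∈ Iso (qv a e f)) :
    g ∈ Gens a e f ∨ g * T (a + e) 1 ∈ Gens a e f := by
  have hr1 : qv a e f (a + e) = 1 := by rw [D.q_add, D.q_left, D.q_right, D.ae]; simp
  obtain ⟨r, hr⟩ : ∃ r, r = T (a + e) (1 : F) := ⟨_, rfl⟩
  rw [← hr]
  have hra : app r a = e := by
    rw [hr, app_T, f_add_right, f_self, D.ae, zero_add, mul_one, one_smul, ← add_assoc, vadd_self,
      zero_add]
  have hre : app r e = a := by
    rw [hr, app_T, f_add_right, f_self, w_comm a e, D.ae, add_zero, mul_one, one_smul, add_comm e,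
      add_assoc, vadd_self, add_zero]
  have hrr : r * r = 1 := by rw [hr, T_mul, CharTwo.add_self_eq_zero, T_zero]
  have hrinv : r⁻¹ = r := inv_eq_of_mul_eq_one_right hrr
  have hconj : ∀ k ∈ Gens a e f, r * k * r ∈ Gens a e f := by
    have : Gens a e f ≤ (Gens a e f).comap (MulAut.conj r).toMonoidHom := by
      refine gens_le (fun b h1 h2 => ?_) fun b h1 h2 => ?_ <;>
      · have hb : app r b = b := by
          rw [hr, app_T, f_add_right, w_comm a b, w_comm e b, h1, h2]; simp
        show r * U _ b (f b) * r⁻¹ ∈ Gens a e f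
        rw [conj_U, hb]
        first
        | (rw [hra]; exact gens_right h1 h2)
        | (rw [hre]; exact gens_left h1 h2)
    intro k hk
    have h := this hk
    change r * k * r⁻¹ ∈ Gens a e f at h
    rwa [hrinv] at h
  let M : Subgroup G :=
    { carrier := {g | g ∈ Gens a e f ∨ g * r ∈ Gens a e f}
      one_mem' := Or.inl (one_mem _)
      inv_mem' := fun {g} h => by
        rcases h with h | h
        · exact Or.inl (inv_mem h)
        · refine Or.inr ?_
          have h' := hconj _ (inv_mem h)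
          rwa [_root_.mul_inv_rev, hrinv, ← mul_assoc r r, hrr, one_mul] at h'
      mul_mem' := fun {g h} hg hh => by
        rcases hg with hg | hg <;> rcases hh with hh | hh
        · exact Or.inl (mul_mem hg hh)
        · exact Or.inr (mul_assoc g h r ▸ mul_mem hg hh)
        · refine Or.inr ?_
          have := mul_mem hg (hconj h hh)
          rwa [show g * r * (r * h * r) = g * (r * r) * (h * r) by group, hrr, mul_one,
            ← mul_assoc] at this
        · refine Or.inl ?_
          have := mul_mem hg (hconj (h * r) hh)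
          rwa [show g * r * (r * (h * r) * r) = g * (r * r) * h * (r * r) by group, hrr, mul_one,
            mul_one] at this }
  have hT : ∀ w, qv a e f w = 1 → T w (1 : F) ∈ M := by
    intro w hw
    obtain ⟨k, hk, hkw⟩ := D.move_one hw
    have e1 : T w (1 : F) = k⁻¹ * r * k := by
      rw [hr, ← hkw]
      have h := conj_T k⁻¹ (app k w) (1 : F)
      rw [inv_inv, app_inv] at h
      exact h.symm
    rw [e1]
    exact M.mul_mem (M.mul_mem (Or.inl (inv_mem hk)) (Or.inr (by rw [hrr]; exact one_mem _))) (Or.inl hk)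
  show g ∈ M
  by_cases hex : m = 2 ∧ Nat.card F = 2
  · obtain ⟨hm, hq⟩ := hex
    have h01 : ∀ x : F, x ≠ 0 → x = 1 := fun x hx => by
      haveI := Fintype.ofFinite F
      have := FiniteField.pow_card_sub_one_eq_one x hx
      rwa [← Nat.card_eq_fintype_card, hq, pow_one] at this
    -- reduce to the stabiliser of `a` and `e`
    obtain ⟨k₁, hk₁, h1⟩ := D.move_singular (v := app g e) (by rw [hg, D.q_right])
      (app_ne_zero g fun h => one_ne_zero (α := F) (by rw [← D.ae, h, f_zero_right]))
    obtain ⟨g₁, hg₁⟩ : ∃ g₁, g₁ = k₁ * g := ⟨_, rfl⟩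
    have hg₁e : app g₁ e = e := by rw [hg₁, app_mul, h1]
    have hg₁i : g₁ ∈ Iso (qv a e f) := hg₁ ▸ mul_mem (D.gens_le_iso hk₁) hg
    obtain ⟨c, hc⟩ : ∃ c, c = pr a e (app g₁ a) := ⟨_, rfl⟩
    have hac : ω a c = 0 := hc ▸ pr_left D.ae _
    have hec : ω e c = 0 := hc ▸ pr_right D.ae _
    have hβ : ω (app g₁ a) e = 1 := by rw [← hg₁e, f_app, D.ae]
    have hα : ω (app g₁ a) a = f c := by
      have h := hg₁i a
      rw [D.q_left, qv, hβ, one_mul, ← hc] at h
      exact CharTwo.add_eq_zero.1 h
    obtain ⟨h, hh⟩ : ∃ h, h = U e c (f c) * g₁ := ⟨_, rfl⟩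
    have hha : app h a = a := by
      rw [hh, app_mul]
      conv_lhs => rw [decomp (a := a) (e := e) (app g₁ a), hβ, hα, one_smul, ← hc]
      simp only [app_add, app_smul, app_U hec, f_add_left, f_smul_left, f_self, w_comm a c, hac, D.ae,
        hec, w_comm e c]
      match_scalars <;> ring_nf <;> simp [two_zero]
    have hhe : app h e = e := by
      rw [hh, app_mul, hg₁e, app_U hec, f_self, hec]; simp
    have hhi : h ∈ Iso (qv a e f) := hh ▸ mul_mem (D.gens_le_iso (gens_right hac hec)) hg₁i
    suffices hM : h ∈ M by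
      have : g = k₁⁻¹ * ((U e c (f c))⁻¹ * h) := by rw [hh, hg₁]; group
      rw [this]
      exact M.mul_mem (Or.inl (inv_mem hk₁)) (M.mul_mem (Or.inl (inv_mem (gens_right hac hec))) hM)
    -- a plane over the field with two elements
    obtain ⟨y, hay, hey, -, hy⟩ := exists_ne_in (a := a) (e := e) D.two_le (0 : V)
    obtain ⟨z₀, hz₀⟩ : ∃ z, ω y z ≠ 0 := by
      by_contra hc
      push Not at hc
      exact hy (eq_zero_of_f y hc)
    obtain ⟨z, hz⟩ : ∃ z, z = pr a e z₀ := ⟨_, rfl⟩
    have haz : ω a z = 0 := hz ▸ pr_left D.ae _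
    have hez : ω e z = 0 := hz ▸ pr_right D.ae _
    have hyz : ω y z = 1 := h01 _ (by rw [hz, f_pr hay hey]; exact hz₀)
    -- vectors are determined by their values on the basis
    have span4 : ∀ v : V, ω v a = 0 → ω v e = 0 → v = ω v z • y + ω v y • z := by
      intro v hva hve
      obtain ⟨u, hu⟩ : ∃ u, u = v + ω v z • y + ω v y • z := ⟨_, rfl⟩
      have u1 : ω a u = 0 := by
        rw [hu, f_add_right, f_add_right, f_smul_right, f_smul_right, w_comm v a, hva, hay, haz]
        simp
      have u2 : ω e u = 0 := by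
        rw [hu, f_add_right, f_add_right, f_smul_right, f_smul_right, w_comm v e, hve, hey, hez]
        simp
      have u3 : ω u y = 0 := by
        rw [hu, f_add_left, f_add_left, f_smul_left, f_smul_left, f_self, w_comm y z, hyz]
        simp [CharTwo.add_self_eq_zero]
      have u4 : ω u z = 0 := by
        rw [hu, f_add_left, f_add_left, f_smul_left, f_smul_left, f_self, hyz]
        simp [CharTwo.add_self_eq_zero]
      have hu0 : u = 0 := by
        by_contra hne
        have hli : LinearIndependent F ![a, e, y, z, u] := by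
          rw [Fintype.linearIndependent_iff]
          intro t ht
          rw [Fin.sum_univ_five] at ht
          simp only [Matrix.cons_val] at ht
          have k0 := congrArg (fun x => ω x e) ht
          have k1 := congrArg (fun x => ω x a) ht
          have k2 := congrArg (fun x => ω x z) ht
          have k3 := congrArg (fun x => ω x y) ht
          simp only [f_add_left, f_smul_left, f_self, f_zero_left, D.ae, w_comm a e, hay, hey, haz,
            hez, w_comm a y, w_comm e y, w_comm a z, w_comm e z, w_comm a u, w_comm e u, u1, u2,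
            u3, u4, hyz, w_comm y z, mul_zero, mul_one, add_zero, zero_add] at k0 k1 k2 k3
          intro i
          fin_cases i
          · exact k0
          · exact k1
          · exact k2
          · exact k3
          · rw [k0, k1, k2, k3] at ht
            simpa [hne] using ht
        have := hli.fintype_card_le_finrank
        rw [Fintype.card_fin, Module.finrank_pi, Fintype.card_sum, Fintype.card_fin] at this
        omega
      rw [hu, add_assoc] at hu0
      funext i
      exact CharTwo.add_eq_zero.1 (congrFun hu0 i)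
    have hfix : ∀ g : G, app g a = a → app g e = e → app g y = y → app g z = z → g = 1 := by
      intro g g1 g2 g3 g4
      refine ext_app fun x => ?_
      rw [app_one]
      conv_rhs => rw [decomp (a := a) (e := e) x]
      conv_lhs => rw [decomp (a := a) (e := e) x]
      rw [app_add, app_add, app_smul, app_smul, g1, g2,
        span4 (pr a e x) (by rw [w_comm a]; exact pr_left D.ae x)
          (by rw [w_comm e]; exact pr_right D.ae x), app_add, app_smul, app_smul, g3, g4]
    -- moving one vector of the plane by a reflection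
    have move : ∀ (h : G) (w u : V), h ∈ Iso (qv a e f) → app h a = a → app h e = e →
        ω a w = 0 → ω e w = 0 → u = app h w → w ≠ 0 → u ≠ w →
        ω a u = 0 ∧ ω e u = 0 ∧ qv a e f (w + u) = 1 ∧ app (T (w + u) (1 : F)) u = w := by
      intro h w u hi ha he haw hew hu hw hne
      have hau : ω a u = 0 := by rw [hu, ← ha, f_app, haw]
      have heu : ω e u = 0 := by rw [hu, ← he, f_app, hew]
      have hwu : ω u w ≠ 0 := by
        intro h0
        obtain ⟨z₁, hz₁⟩ : ∃ z₁, ω w z₁ ≠ 0 := by
          by_contra hc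
          push Not at hc
          exact hw (eq_zero_of_f w hc)
        have e1 := span4 w (by rw [w_comm, haw]) (by rw [w_comm, hew])
        have e2 := span4 u (by rw [w_comm, hau]) (by rw [w_comm, heu])
        have hu0 : u ≠ 0 := hu ▸ app_ne_zero h hw
        rw [e1, e2] at h0
        simp only [f_add_left, f_add_right, f_smul_left, f_smul_right, f_self, hyz, w_comm y z,
          mul_zero, mul_one, add_zero, zero_add] at h0
        have h01' : ∀ x : F, x = 0 ∨ x = 1 := fun x => (eq_or_ne x 0).imp_right (h01 x)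
        rcases h01' (ω w z) with p | p <;> rcases h01' (ω w y) with q | q <;>
          rcases h01' (ω u z) with p' | p' <;> rcases h01' (ω u y) with q' | q' <;>
          simp only [p, q, p', q', zero_smul, one_smul, add_zero, zero_add] at e1 e2 <;>
          first
          | exact hw e1
          | exact hu0 e2
          | exact hne (e2.trans e1.symm)
          | simp [p, q, p', q'] at h0
      refine ⟨hau, heu, ?_, ?_⟩
      · rw [D.q_add, hu, hi w, CharTwo.add_self_eq_zero, zero_add, ← hu, w_comm u w, h01 _ hwu]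
      · rw [app_T, f_add_right, f_self, h01 _ hwu, add_zero, one_mul, one_smul, add_comm w u,
          ← add_assoc, vadd_self, zero_add]
    obtain ⟨h', hh'M, hh'a, hh'e, hh'y, hh'i⟩ : ∃ h', (h' ∈ M → h ∈ M) ∧ app h' a = a ∧
        app h' e = e ∧ app h' y = y ∧ h' ∈ Iso (qv a e f) := by
      by_cases hyy : app h y = y
      · exact ⟨h, id, hha, hhe, hyy, hhi⟩
      obtain ⟨h1, h2, h3, h4⟩ := move h y _ hhi hha hhe hay hey rfl hy hyy
      refine ⟨T (y + app h y) 1 * h, fun h' => ?_, ?_, ?_, by rw [app_mul, h4],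
        mul_mem (D.T_mem_iso h3) hhi⟩
      · have := M.mul_mem (hT _ h3) h'
        rwa [← mul_assoc, T_mul, CharTwo.add_self_eq_zero, T_zero, one_mul] at this
      · rw [app_mul, hha, app_T, f_add_right, hay, h1]; simp
      · rw [app_mul, hhe, app_T, f_add_right, hey, h2]; simp
    refine hh'M ?_
    by_cases hzz : app h' z = z
    · rw [hfix h' hh'a hh'e hh'y hzz]; exact one_mem _
    obtain ⟨h1, h2, h3, h4⟩ := move h' z _ hh'i hh'a hh'e haz hez rfl
      (fun h => one_ne_zero (α := F) (by rw [← hyz, h, f_zero_right])) hzz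
    have hsum : ω y (z + app h' z) = 0 := by
      rw [f_add_right, ← hh'y, f_app, hh'y, CharTwo.add_self_eq_zero]
    have := hfix (T (z + app h' z) 1 * h') (by rw [app_mul, hh'a, app_T, f_add_right, haz, h1]; simp)
      (by rw [app_mul, hh'e, app_T, f_add_right, hez, h2]; simp)
      (by rw [app_mul, hh'y, app_T, hsum]; simp) (by rw [app_mul, h4])
    have e2 : h' = T (z + app h' z) 1 := by
      have h5 := congrArg (T (z + app h' z) (1 : F) * ·) this
      simpa [← mul_assoc, T_mul, CharTwo.add_self_eq_zero, T_zero] using h5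
    rw [e2]; exact hT _ h3
  · haveI := Fintype.ofFinite F
    have htop := CfsgLib.Orth.refl_eq_top D.nondeg (fun h => by
      rw [Module.finrank_pi, Fintype.card_sum, Fintype.card_fin] at h
      intro hc; exact hex ⟨by omega, hc⟩)
    have hmem : D.toGrp ⟨g, hg⟩ ∈ (M.subgroupOf (Iso (qv a e f))).map D.toGrp := by
      have : CfsgLib.Orth.Refl D.toQuad ≤ (M.subgroupOf (Iso (qv a e f))).map D.toGrp := by
        rw [CfsgLib.Orth.Refl, Subgroup.closure_le]
        rintro x ⟨v, hv⟩
        have hv1 := hv.1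
        rw [D.toQuad_coe] at hv1
        obtain ⟨s, hs⟩ := exists_square_root (qv a e f v)⁻¹
        have hs0 : s ≠ 0 := fun h => inv_ne_zero hv1 (by rw [← hs, h, mul_zero])
        have hw : qv a e f (s • v) = 1 := by rw [D.q_smul, hs, inv_mul_cancel₀ hv1]
        refine ⟨⟨_, D.T_mem_iso hw⟩, hT _ hw, CfsgLib.Orth.ext_ap fun y => ?_⟩
        rw [D.ap_toGrp, app_T, f_smul_right, hv.2, D.polar_eq, show D.toQuad v = qv a e f v from rfl, w_comm y v,
          sub_eq_add_neg, ← neg_smul, CharTwo.neg_eq, smul_smul, ← hs]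
        congr 2; ring
      exact this (htop ▸ Subgroup.mem_top _)
    obtain ⟨⟨x, hx⟩, hxM, hxe⟩ := hmem
    have : x = g := ext_app fun y => by
      have := congrArg (fun z => CfsgLib.Orth.ap z y) hxe
      exact this
    exact this ▸ hxM

/-- A subgroup between the graphs' group and the isometry group. -/
theorem Form.between (D : Form a e f) (hKL : Gens a e f ≤ L) (hLI : L ≤ Iso (qv a e f)) :
    L = Iso (qv a e f) ∨ ∀ g, g ∈ L ↔ (g ∈ Iso (qv a e f) ∧
      Even (((g : G) : Matrix (Fin m ⊕ Fin m) (Fin m ⊕ Fin m) F) - 1).rank) := by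
  have hr1 : qv a e f (a + e) = 1 := by rw [D.q_add, D.q_left, D.q_right, D.ae]; simp
  by_cases hodd : ∃ g, ∃ h : g ∈ L, D.sign ⟨g, hLI h⟩ ≠ 1
  · left
    obtain ⟨g, hgL, hgs⟩ := hodd
    have hr : T (a + e) (1 : F) ∈ L := by
      rcases D.iso_cases (hLI hgL) with h | h
      · exact absurd (D.sign_gens h) hgs
      · have := L.mul_mem (L.inv_mem hgL) (hKL h)
        rwa [inv_mul_cancel_left] at this
    refine le_antisymm hLI fun x hx => ?_
    rcases D.iso_cases hx with h | h
    · exact hKL h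
    · have := L.mul_mem (hKL h) hr
      rwa [mul_assoc, T_mul, CharTwo.add_self_eq_zero, T_zero, mul_one] at this
  · right
    push Not at hodd
    intro g
    constructor
    · intro hg
      refine ⟨hLI hg, ?_⟩
      have h := hodd g hg
      rw [D.sign_eq] at h
      exact (neg_one_pow_eq_one_iff_even (by decide : (-1 : ℤˣ) ≠ 1)).1 h
    · rintro ⟨hg, hev⟩
      rcases D.iso_cases hg with h | h
      · exact hKL h
      · exfalso
        have h1 := D.sign_gens h
        have e1 : (⟨g * T (a + e) 1, D.gens_le_iso h⟩ : Iso (qv a e f)) =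
            ⟨g, hg⟩ * ⟨_, D.T_mem_iso hr1⟩ := rfl
        rw [e1, map_mul, D.rank_T hr1, D.sign_eq, hev.neg_one_pow] at h1
        exact absurd h1 (by decide)

end CfsgLib.Classical.SympGraph
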